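import Groth.Agent.L02.PC.Finite

/-!
Objects which are `m`-pseudo-coherent for all `m`.
-/

universe u

open CategoryTheory CategoryTheory.Limits CategoryTheory.Pretriangulated CochainComplex

attribute [local instance] HasDerivedCategory.standard

namespace Groth.L02.PC

variable {A : Type u} [CommRing A]

lemma pc_of_finiteFree {E : DRing.Cx A} {b : ℤ} (h1 : DRing.VanishesAbove E b)
    (h2 : DRing.TermwiseFiniteFree E) (m : ℤ) : DRing.IsPseudoCoherent A m (DRing.toD E) :=
  pc_of_approx _ (isApprox_truncι E m)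
    (pc_of_bounded_free (trunc_vanishesOutside E m b h1) (trunc_finiteFree E m fun i _ => h2 i) m)

lemma pc_of_pc' {K : Dual.D A} (h : DRing.IsPseudoCoherent' A K) (m : ℤ) :
    DRing.IsPseudoCoherent A m K := by
  obtain ⟨E, b, h1, h2, ⟨e⟩⟩ := h
  exact pc_of_iso e (pc_of_finiteFree h1 h2 m)

lemma trunc_finiteProjective (P : DRing.Cx A) (n : ℤ) (h : DRing.TermwiseFiniteProjective P) :
    DRing.TermwiseFiniteProjective (trunc P n) := fun i => by
  by_cases hi : n ≤ i
  · obtain ⟨_, _⟩ := h i
    let e : (trunc P n).X i ≃ₗ[A] P.X i :=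
      LinearEquiv.ofBijective ((truncι P n).f i).hom (truncι_bijective P n hi)
    exact ⟨Module.Finite.equiv e.symm, Module.Projective.of_equiv e.symm⟩
  · have := ModuleCat.subsingleton_of_isZero (isZero_trunc_X P n (show i < n by omega))
    exact ⟨inferInstance, inferInstance⟩

lemma pc_of_finiteProjective {E : DRing.Cx A} {b : ℤ} (h1 : DRing.VanishesAbove E b)
    (h2 : DRing.TermwiseFiniteProjective E) (m : ℤ) : DRing.IsPseudoCoherent A m (DRing.toD E) :=
  pc_of_approx _ (isApprox_truncι E m)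
    (pc_of_pc' (Groth.L29.PerfPC.isPseudoCoherent'_of_isPerfect
      ⟨trunc E m, m, b, trunc_vanishesOutside E m b h1, trunc_finiteProjective E m h2, ⟨Iso.refl _⟩⟩) m)

theorem pc'_of_forall {K : Dual.D A} (h : ∀ m, DRing.IsPseudoCoherent A m K) :
    DRing.IsPseudoCoherent' A K := by
  obtain ⟨n, hn⟩ := exists_LEH (h 0)
  have : K.IsLE n := (DerivedCategory.isLE_iff K n).2 hn
  obtain ⟨L, hL, ⟨e⟩⟩ := DerivedCategory.exists_iso_Q_obj_of_isLE K n
  obtain ⟨P, f, hP, hPF, hf⟩ := exists_finite_free_resolution L n ((vanishesAbove_iff L n).2 hL)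
    fun W a φ i hW hWF _ hex => by
      have hpc : DRing.IsPseudoCoherent A i (DRing.toD (mappingCone φ)) :=
        pc_third _ (mappingCone_distinguished φ) i (pc_of_bounded_free hW hWF (i + 1)) (pc_of_iso e (h i))
      have := pc_finite hpc fun j hj => (isZero_HH_Q_iff _ j).2 (hex j hj)
      have h' : Module.Finite A
          ((DerivedCategory.Q ⋙ DerivedCategory.homologyFunctor (ModuleCat.{u} A) i).obj (mappingCone φ)) := this
      exact Module.Finite.equiv
        ((DerivedCategory.homologyFunctorFactors _ i).app (mappingCone φ)).toLinearEquiv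
  exact ⟨P, n, hP, hPF, ⟨asIso (DerivedCategory.Q.map f) ≪≫ e.symm⟩⟩

end Groth.L02.PC
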