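import Groth.Prelude.Def_DDual2
import Mathlib.Algebra.Homology.DerivedCategory.KProjective
import Mathlib.Algebra.Homology.HomotopyCategory.HomComplex
import Mathlib.Logic.Small.Basic
import Mathlib.LinearAlgebra.Finsupp.LSum

/-!
A total left derived functor of a functor on the homotopy category of modules agrees with the functor
on K-projective complexes.  Only the universal property of the right Kan extension is used.
-/

universe u

open CategoryTheory CategoryTheory.Limits CochainComplex CochainComplex.HomComplex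

namespace Groth.L02.PC

section Abstract

variable {C D H : Type*} [Category C] [Category D] [Category H] (L : C ⥤ D) (F : C ⥤ H)
  (LF : D ⥤ H) (α : L ⋙ LF ⟶ F) [LF.IsRightKanExtension α]

/-- If the localization functor has a natural lifting with a section at `P`, the counit of a right
Kan extension along it is an isomorphism at `P`. -/
theorem isIso_counit_app_of_section (C₀ : D ⥤ C) (l : ∀ Y, C₀.obj (L.obj Y) ⟶ Y) (η : C₀ ⋙ L ⟶ 𝟭 D)
    (hl : ∀ Y, L.map (l Y) = η.app (L.obj Y))
    (hnat : ∀ ⦃Y Y' : C⦄ (f : Y ⟶ Y'), C₀.map (L.map f) ≫ l Y' = l Y ≫ f)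
    (P : C) (i : P ⟶ C₀.obj (L.obj P)) (hi : i ≫ l P = 𝟙 P) : IsIso (α.app P) := by
  let β : L ⋙ (C₀ ⋙ F) ⟶ F :=
    { app := fun Y => F.map (l Y)
      naturality := fun Y Y' f => by
        show F.map (C₀.map (L.map f)) ≫ F.map (l Y') = F.map (l Y) ≫ F.map f
        rw [← F.map_comp, ← F.map_comp, hnat] }
  let σ := LF.liftOfIsRightKanExtension α (C₀ ⋙ F) β
  have hσ : ∀ Y, σ.app (L.obj Y) ≫ α.app Y = F.map (l Y) := fun Y =>
    LF.liftOfIsRightKanExtension_fac_app α (C₀ ⋙ F) β Y
  let τ₁ : C₀ ⋙ L ⋙ LF ⟶ LF :=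
    { app := fun X => LF.map (η.app X)
      naturality := fun X X' g => by
        show LF.map (L.map (C₀.map g)) ≫ LF.map (η.app X') = LF.map (η.app X) ≫ LF.map g
        rw [← LF.map_comp, ← LF.map_comp]
        exact congrArg LF.map (η.naturality g) }
  let τ₂ : C₀ ⋙ L ⋙ LF ⟶ LF :=
    { app := fun X => α.app (C₀.obj X) ≫ σ.app X
      naturality := fun X X' g => by
        show LF.map (L.map (C₀.map g)) ≫ α.app (C₀.obj X') ≫ σ.app X' = (α.app (C₀.obj X) ≫ σ.app X) ≫ LF.map g
        rw [Category.assoc, ← σ.naturality g]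
        exact (reassoc_of% α.naturality (C₀.map g)) _ }
  have hτ : τ₁ = τ₂ := LF.hom_ext_of_isRightKanExtension α _ _ (by
    ext Y
    show LF.map (η.app (L.obj Y)) ≫ α.app Y = (α.app (C₀.obj (L.obj Y)) ≫ σ.app (L.obj Y)) ≫ α.app Y
    rw [Category.assoc, hσ, ← hl]
    exact α.naturality (l Y))
  refine ⟨F.map i ≫ σ.app (L.obj P), ?_, ?_⟩
  · have h1 : LF.map (η.app (L.obj P)) = α.app (C₀.obj (L.obj P)) ≫ σ.app (L.obj P) :=
      NatTrans.congr_app hτ (L.obj P)
    have h2 := α.naturality i
    calc α.app P ≫ F.map i ≫ σ.app (L.obj P)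
        = LF.map (L.map i) ≫ α.app (C₀.obj (L.obj P)) ≫ σ.app (L.obj P) := by
          rw [← Category.assoc, ← h2, Category.assoc]
          rfl
      _ = LF.map (L.map i) ≫ LF.map (η.app (L.obj P)) := by rw [h1]
      _ = 𝟙 _ := by rw [← LF.map_comp, ← hl, ← L.map_comp, hi, L.map_id, LF.map_id]
  · rw [Category.assoc, hσ, ← F.map_comp, hi, F.map_id]

end Abstract

variable {A : Type u} [CommRing A] (P : CochainComplex (ModuleCat.{u} A) ℤ)

/-- a sum of copies of a complex -/
noncomputable def sumCx (J : Type u) : CochainComplex (ModuleCat.{u} A) ℤ where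
  X n := ModuleCat.of A (J →₀ P.X n)
  d i j := ModuleCat.ofHom (Finsupp.mapRange.linearMap (P.d i j).hom)
  shape i j h := by
    refine ModuleCat.hom_ext (LinearMap.ext fun x => Finsupp.ext fun s => ?_)
    show P.d i j (x s) = (0 : P.X j)
    rw [P.shape i j h]
    rfl
  d_comp_d' i j k _ _ := by
    refine ModuleCat.hom_ext (LinearMap.ext fun x => Finsupp.ext fun s => ?_)
    show (P.d i j ≫ P.d j k).hom (x s) = (0 : P.X k)
    rw [P.d_comp_d]
    rfl

/-- inclusion of a summand -/
noncomputable def sumι {J : Type u} (s : J) : P ⟶ sumCx P J where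
  f n := ModuleCat.ofHom (Finsupp.lsingle s)
  comm' i j _ := ModuleCat.hom_ext (LinearMap.ext fun x => by
    show Finsupp.mapRange.linearMap (P.d i j).hom (Finsupp.single s x) = Finsupp.single s (P.d i j x)
    simp)

/-- reindexing of a sum -/
noncomputable def sumMap {J J' : Type u} (r : J → J') : sumCx P J ⟶ sumCx P J' where
  f n := ModuleCat.ofHom (Finsupp.lmapDomain _ A r)
  comm' i j _ := ModuleCat.hom_ext (Finsupp.lhom_ext fun s x => by
    show Finsupp.mapRange.linearMap (P.d i j).hom (Finsupp.lmapDomain _ A r (Finsupp.single s x)) =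
      Finsupp.lmapDomain _ A r (Finsupp.mapRange.linearMap (P.d i j).hom (Finsupp.single s x))
    simp [Finsupp.mapDomain_single])

lemma sumι_map {J J' : Type u} (r : J → J') (s : J) : sumι P s ≫ sumMap P r = sumι P (r s) := by
  ext n x
  show Finsupp.lmapDomain _ A r (Finsupp.single s x) = Finsupp.single (r s) x
  simp [Finsupp.mapDomain_single]

variable {P}

lemma sum_hom_ext {J : Type u} {Y : CochainComplex (ModuleCat.{u} A) ℤ} {f g : sumCx P J ⟶ Y}
    (h : ∀ s, sumι P s ≫ f = sumι P s ≫ g) : f = g := by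
  refine HomologicalComplex.hom_ext _ _ fun n => ModuleCat.hom_ext (Finsupp.lhom_ext fun s x => ?_)
  exact congrArg (fun φ : P ⟶ Y => φ.f n x) (h s)

/-- maps out of a sum -/
noncomputable def sumDesc {J : Type u} {Y : CochainComplex (ModuleCat.{u} A) ℤ} (g : J → (P ⟶ Y)) :
    sumCx P J ⟶ Y where
  f n := ModuleCat.ofHom (Finsupp.lsum A (fun s => ((g s).f n).hom))
  comm' i j _ := ModuleCat.hom_ext (Finsupp.lhom_ext fun s x => by
    show Y.d i j (Finsupp.lsum A (fun s => ((g s).f i).hom) (Finsupp.single s x)) =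
      Finsupp.lsum A (fun s => ((g s).f j).hom) (Finsupp.mapRange.linearMap (P.d i j).hom (Finsupp.single s x))
    simp
    exact congrArg (fun φ : P.X i ⟶ Y.X j => φ x) ((g s).comm i j))

lemma sumι_desc {J : Type u} {Y : CochainComplex (ModuleCat.{u} A) ℤ} (g : J → (P ⟶ Y)) (s : J) :
    sumι P s ≫ sumDesc g = g s := by
  ext n x
  show Finsupp.lsum A (fun s => ((g s).f n).hom) (Finsupp.single s x) = _
  simp

/-- a map out of a sum is null homotopic when its components are -/
noncomputable def sumHomotopy {J : Type u} {Y : CochainComplex (ModuleCat.{u} A) ℤ} {f : sumCx P J ⟶ Y}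
    (h : ∀ s, Homotopy (sumι P s ≫ f) 0) : Homotopy f 0 := by
  let a : ∀ s, Cochain P Y (-1) := fun s => (Cochain.equivHomotopy _ _ (h s)).1
  let c : Cochain (sumCx P J) Y (-1) :=
    Cochain.mk fun p q hpq => ModuleCat.ofHom (Finsupp.lsum A (fun s => ((a s).v p q hpq).hom))
  refine (Cochain.equivHomotopy f 0).symm ⟨c, ?_⟩
  rw [Cochain.ofHom_zero, add_zero]
  refine Cochain.ext₀ _ _ fun p => ModuleCat.hom_ext (Finsupp.lhom_ext fun s x => ?_)
  have h1 := (Cochain.equivHomotopy _ _ (h s)).2
  simp only [Cochain.ofHom_zero, add_zero] at h1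
  have h2 := congrArg (fun φ : P.X p ⟶ Y.X p => φ x) (Cochain.congr_v h1 p p (add_zero p))
  simp only [δ_v (-1) 0 (neg_add_cancel 1) _ p p (add_zero p) (p - 1) (p + 1) rfl rfl, Cochain.ofHom_v] at h2 ⊢
  refine Eq.trans ?_ (h2.trans ?_)
  · rfl
  · simp [c, a, sumCx]
    show _ = (Y.d (p - 1) p).hom (Finsupp.lsum A _ (Finsupp.single s x)) +
      (1 : ℤ) • Finsupp.lsum A _ (Finsupp.mapRange.linearMap (P.d p (p + 1)).hom (Finsupp.single s x))
    simp

instance isKProjective_sumCx (J : Type u) [P.IsKProjective] : (sumCx P J).IsKProjective where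
  nonempty_homotopy_zero f hY :=
    ⟨sumHomotopy fun _ => CochainComplex.IsKProjective.homotopyZero _ hY⟩

variable [HasDerivedCategory.{u + 1} (ModuleCat.{u} A)]

variable (P) in
/-- the image of a complex in the derived category, through the homotopy category -/
noncomputable abbrev qhObj : DerivedCategory (ModuleCat.{u} A) :=
  DerivedCategory.Qh.obj ((HomotopyCategory.quotient _ _).obj P)

variable [P.IsKProjective]

instance small_hom (X : DerivedCategory (ModuleCat.{u} A)) : Small.{u} (qhObj P ⟶ X) := by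
  let Y := DerivedCategory.Qh.objPreimage X
  let e := DerivedCategory.Qh.objObjPreimageIso X
  obtain ⟨Y, hY⟩ := HomotopyCategory.quotient_obj_surjective Y
  refine small_of_surjective (f := fun g : P ⟶ Y =>
    DerivedCategory.Qh.map ((HomotopyCategory.quotient _ _).map g ≫ eqToHom hY) ≫ e.hom) fun φ => ?_
  obtain ⟨k, hk⟩ := (CochainComplex.IsKProjective.Qh_map_bijective P _).surjective (φ ≫ e.inv)
  obtain ⟨g, hg⟩ := (HomotopyCategory.quotient _ _).map_surjective (k ≫ eqToHom hY.symm)
  exact ⟨g, by simp [hg, hk]⟩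

/-- existence of maps in the derived category out of a sum -/
lemma exists_sum_desc {J : Type u} {X : DerivedCategory (ModuleCat.{u} A)} (g : J → (qhObj P ⟶ X)) :
    ∃ φ : qhObj (sumCx P J) ⟶ X,
      ∀ s, DerivedCategory.Qh.map ((HomotopyCategory.quotient _ _).map (sumι P s)) ≫ φ = g s := by
  let e := DerivedCategory.Qh.objObjPreimageIso X
  obtain ⟨Y, hY⟩ := HomotopyCategory.quotient_obj_surjective (DerivedCategory.Qh.objPreimage X)
  choose k hk using fun s => (CochainComplex.IsKProjective.Qh_map_bijective P _).surjective (g s ≫ e.inv)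
  choose r hr using fun s => (HomotopyCategory.quotient _ _).map_surjective (k s ≫ eqToHom hY.symm)
  refine ⟨DerivedCategory.Qh.map ((HomotopyCategory.quotient _ _).map (sumDesc r) ≫ eqToHom hY) ≫ e.hom,
    fun s => ?_⟩
  rw [← Category.assoc, ← Functor.map_comp, ← Category.assoc, ← Functor.map_comp, sumι_desc, hr]
  simp [hk]

/-- uniqueness of maps in the derived category out of a sum -/
lemma sum_desc_ext {J : Type u} {X : DerivedCategory (ModuleCat.{u} A)}
    {φ ψ : qhObj (sumCx P J) ⟶ X}
    (h : ∀ s, DerivedCategory.Qh.map ((HomotopyCategory.quotient _ _).map (sumι P s)) ≫ φ =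
      DerivedCategory.Qh.map ((HomotopyCategory.quotient _ _).map (sumι P s)) ≫ ψ) : φ = ψ := by
  let e := DerivedCategory.Qh.objObjPreimageIso X
  obtain ⟨Y, hY⟩ := HomotopyCategory.quotient_obj_surjective (DerivedCategory.Qh.objPreimage X)
  have hb := CochainComplex.IsKProjective.Qh_map_bijective (sumCx P J) (DerivedCategory.Qh.objPreimage X)
  obtain ⟨k, hk⟩ := hb.surjective (φ ≫ e.inv)
  obtain ⟨k', hk'⟩ := hb.surjective (ψ ≫ e.inv)
  obtain ⟨r, hr⟩ := (HomotopyCategory.quotient _ _).map_surjective (k ≫ eqToHom hY.symm)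
  obtain ⟨r', hr'⟩ := (HomotopyCategory.quotient _ _).map_surjective (k' ≫ eqToHom hY.symm)
  have hnull : (HomotopyCategory.quotient _ _).map (r - r') = 0 := by
    have hs : ∀ s, (HomotopyCategory.quotient _ _).map (sumι P s ≫ (r - r')) = 0 := by
      intro s
      rw [Functor.map_comp, Functor.map_sub, hr, hr', Preadditive.comp_sub, sub_eq_zero,
        ← Category.assoc, ← Category.assoc]
      refine congrArg (· ≫ eqToHom hY.symm) ?_
      apply (CochainComplex.IsKProjective.Qh_map_bijective P _).injective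
      rw [Functor.map_comp, Functor.map_comp, hk, hk', ← Category.assoc, ← Category.assoc, h]
    rw [← (HomotopyCategory.quotient _ _).map_zero]
    exact HomotopyCategory.eq_of_homotopy _ _ (sumHomotopy fun s =>
      HomotopyCategory.homotopyOfEq _ _ ((hs s).trans ((HomotopyCategory.quotient _ _).map_zero _ _).symm))
  rw [Functor.map_sub, hr, hr', sub_eq_zero, cancel_mono] at hnull
  rw [hnull, hk'] at hk
  exact ((cancel_mono e.inv).1 hk).symm

variable (P)

/-- the index of the canonical sum over an object -/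
abbrev idx (X : DerivedCategory (ModuleCat.{u} A)) : Type u := Shrink.{u} (qhObj P ⟶ X)

/-- postcomposition on indices -/
noncomputable def idxMap {X X' : DerivedCategory (ModuleCat.{u} A)} (g : X ⟶ X') : idx P X → idx P X' :=
  fun s => equivShrink _ ((equivShrink _).symm s ≫ g)

/-- the canonical sum over an object -/
noncomputable def canSum :
    DerivedCategory (ModuleCat.{u} A) ⥤ HomotopyCategory (ModuleCat.{u} A) (ComplexShape.up ℤ) where
  obj X := (HomotopyCategory.quotient _ _).obj (sumCx P (idx P X))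
  map g := (HomotopyCategory.quotient _ _).map (sumMap P (idxMap P g))
  map_id X := by
    rw [show sumMap P (idxMap P (𝟙 X)) = 𝟙 _ from sum_hom_ext fun s => by
      rw [sumι_map, Category.comp_id]; simp [idxMap], CategoryTheory.Functor.map_id]
  map_comp g g' := by
    rw [← Functor.map_comp]
    refine congrArg _ (sum_hom_ext fun s => ?_)
    rw [sumι_map, ← Category.assoc, sumι_map, sumι_map]
    simp [idxMap]

/-- evaluation of the canonical sum -/
noncomputable def canEval : canSum P ⋙ DerivedCategory.Qh ⟶ 𝟭 _ where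
  app X := (exists_sum_desc (X := X) fun s => (equivShrink _).symm s).choose
  naturality X X' g := sum_desc_ext fun s => by
    have h1 := (exists_sum_desc (X := X) fun s => (equivShrink (qhObj P ⟶ X)).symm s).choose_spec s
    have h2 := (exists_sum_desc (X := X') fun s => (equivShrink (qhObj P ⟶ X')).symm s).choose_spec
      (idxMap P g s)
    show DerivedCategory.Qh.map _ ≫ DerivedCategory.Qh.map ((HomotopyCategory.quotient _ _).map _) ≫ _ =
      DerivedCategory.Qh.map _ ≫ _ ≫ g
    rw [← Category.assoc, ← Category.assoc, h1, ← Functor.map_comp, ← Functor.map_comp, sumι_map, h2]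
    simp [idxMap]

/-- The counit of any left derived functor of a functor on the homotopy category is an isomorphism at
a K-projective complex. -/
theorem isIso_counit_of_isKProjective {H : Type*} [Category H]
    (F : HomotopyCategory (ModuleCat.{u} A) (ComplexShape.up ℤ) ⥤ H)
    (LF : DerivedCategory (ModuleCat.{u} A) ⥤ H) (α : DerivedCategory.Qh ⋙ LF ⟶ F)
    [LF.IsRightKanExtension α] : IsIso (α.app ((HomotopyCategory.quotient _ _).obj P)) := by
  obtain ⟨l, hl⟩ : ∃ l : ∀ Y, (canSum P).obj (DerivedCategory.Qh.obj Y) ⟶ Y,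
      ∀ Y, DerivedCategory.Qh.map (l Y) = (canEval P).app (DerivedCategory.Qh.obj Y) := by
    choose l hl using fun Y => (CochainComplex.IsKProjective.Qh_map_bijective
      (sumCx P (idx P (DerivedCategory.Qh.obj Y))) Y).surjective ((canEval P).app (DerivedCategory.Qh.obj Y))
    exact ⟨l, hl⟩
  refine isIso_counit_app_of_section DerivedCategory.Qh F LF α (canSum P) l (canEval P) hl (fun Y Y' f => ?_)
    _ ((HomotopyCategory.quotient _ _).map (sumι P (equivShrink _ (𝟙 _)))) ?_
  · apply (CochainComplex.IsKProjective.Qh_map_bijective _ _).injective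
    refine (DerivedCategory.Qh.map_comp _ _).trans (Eq.trans ?_ (DerivedCategory.Qh.map_comp _ _).symm)
    exact ((congrArg (_ ≫ ·) (hl Y')).trans ((canEval P).naturality (DerivedCategory.Qh.map f))).trans
      (congrArg (· ≫ _) (hl Y).symm)
  · apply (CochainComplex.IsKProjective.Qh_map_bijective _ _).injective
    refine (DerivedCategory.Qh.map_comp _ _).trans (Eq.trans ?_ (DerivedCategory.Qh.map_id _).symm)
    refine (congrArg (_ ≫ ·) (hl _)).trans ?_
    exact ((exists_sum_desc (X := qhObj P) fun s => (equivShrink _).symm s).choose_spec _).trans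
      (Equiv.symm_apply_apply _ _)

end Groth.L02.PC
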