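import Groth.Agent.L02.PC.Finite
import Groth.Agent.L02.PC.Counit
import Groth.Prelude.Def_DDual2
import Mathlib.Algebra.Homology.HomotopyCategory.MappingCone

/-!
Derived base change of bounded above complexes of projective modules, and of pseudo-coherent objects.
-/

universe u

open CategoryTheory CategoryTheory.Limits CategoryTheory.Pretriangulated CochainComplex

attribute [local instance] HasDerivedCategory.standard

namespace Groth.L02.PC

variable {A B : Type u} [CommRing A] [CommRing B] (φ : A →+* B)

/-- termwise base change of complexes -/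
noncomputable abbrev bcCx : DRing.Cx A ⥤ DRing.Cx B :=
  (ModuleCat.extendScalars.{u, u, u} φ).mapHomologicalComplex (ComplexShape.up ℤ)

/-- derived base change of a K-projective complex is termwise base change -/
noncomputable def lbcIso [DRing.HasLBaseChange φ] (P : DRing.Cx A) [P.IsKProjective] :
    (DRing.LBaseChange φ).obj (DRing.toD P) ≅ DRing.toD ((bcCx φ).obj P) :=
  haveI : (DRing.LBaseChange φ).IsRightKanExtension
      ((DRing.baseChangeKh φ).totalLeftDerivedCounit DerivedCategory.Qh
        (HomotopyCategory.quasiIso (ModuleCat.{u} A) (ComplexShape.up ℤ))) :=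
    Functor.IsLeftDerivedFunctor.isRightKanExtension _ _
      (HomotopyCategory.quasiIso (ModuleCat.{u} A) (ComplexShape.up ℤ))
  haveI := isIso_counit_of_isKProjective P (DRing.baseChangeKh φ)
    (DRing.LBaseChange φ) ((DRing.baseChangeKh φ).totalLeftDerivedCounit DerivedCategory.Qh
      (HomotopyCategory.quasiIso (ModuleCat.{u} A) (ComplexShape.up ℤ)))
  (DRing.LBaseChange φ).mapIso ((DerivedCategory.quotientCompQhIso _).app P).symm ≪≫
    asIso (((DRing.baseChangeKh φ).totalLeftDerivedCounit DerivedCategory.Qh
      (HomotopyCategory.quasiIso (ModuleCat.{u} A) (ComplexShape.up ℤ))).app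
        ((HomotopyCategory.quotient _ _).obj P)) ≪≫
    (DerivedCategory.quotientCompQhIso _).app ((bcCx φ).obj P)

lemma finite_free_extendScalars (M : ModuleCat.{u} A) [Module.Finite A M] [Module.Free A M] :
    Module.Finite B ((ModuleCat.extendScalars.{u, u, u} φ).obj M) ∧
      Module.Free B ((ModuleCat.extendScalars.{u, u, u} φ).obj M) := by
  let := φ.toAlgebra
  exact ⟨inferInstanceAs (Module.Finite B (TensorProduct A B M)),
    inferInstanceAs (Module.Free B (TensorProduct A B M))⟩

lemma bcCx_bounded {E : DRing.Cx A} {a b : ℤ} (h1 : DRing.VanishesOutside E a b)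
    (h2 : DRing.TermwiseFiniteFree E) :
    DRing.VanishesOutside ((bcCx φ).obj E) a b ∧ DRing.TermwiseFiniteFree ((bcCx φ).obj E) := by
  refine ⟨fun i hi => (ModuleCat.extendScalars.{u, u, u} φ).map_isZero (h1 i hi), fun i => ?_⟩
  obtain ⟨_, _⟩ := h2 i
  exact finite_free_extendScalars φ (E.X i)

/-- derived base change preserves pseudo-coherence -/
theorem pc_lBaseChange [DRing.HasLBaseChange φ] {K : Dual.D A} {m : ℤ} (hK : DRing.IsPseudoCoherent A m K) :
    DRing.IsPseudoCoherent B m ((DRing.LBaseChange φ).obj K) := by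
  obtain ⟨n, hn⟩ := exists_LEH hK
  obtain ⟨P, hPb, hPfree, hPk, ⟨e⟩⟩ := exists_free_rep hn
  obtain ⟨E, a, b, α, v, f, happ⟩ := (pc_iff m _).1 (pc_of_iso e.symm hK)
  have := isKProjective_bounded v f
  obtain ⟨g, hg⟩ := exists_chainMap α
  rw [← hg, isApprox_Q_map_iff] at happ
  have hproj : ∀ i, Module.Projective A ((mappingCone g).X i) := fun i => by
    have := (f (i + 1)).2
    have := hPfree i
    exact Module.Projective.of_equiv (coneEquiv g i (i + 1) rfl).symm
  have hab : DRing.VanishesAbove (mappingCone g) (max b n) := fun i hi => by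
    rw [mappingCone.isZero_X_iff]
    exact ⟨v _ (Or.inr (by omega)), hPb _ (by omega)⟩
  have hcone : IsApprox (DerivedCategory.Q.map ((bcCx φ).map g)) m := by
    rw [isApprox_Q_map_iff]
    intro i hi
    exact IsZero.of_iso (isZero_homology_map hab hproj happ (ModuleCat.extendScalars.{u, u, u} φ) i hi)
      ((HomologicalComplex.homologyFunctor _ _ i).mapIso
        (mappingCone.mapHomologicalComplexIso g (ModuleCat.extendScalars.{u, u, u} φ))).symm
  exact pc_of_iso ((lbcIso φ P).symm ≪≫ (DRing.LBaseChange φ).mapIso e)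
    (pc_of_approx _ hcone (pc_of_bounded_free (bcCx_bounded φ v f).1 (bcCx_bounded φ v f).2 m))

end Groth.L02.PC
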