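import Groth.Agent.L02.PC.Resolution
import Groth.Agent.L29.PerfPC
import Mathlib.Algebra.Homology.DerivedCategory.KProjective
import Mathlib.Algebra.Homology.DerivedCategory.HomologySequence
import Mathlib.Algebra.Homology.DerivedCategory.TStructure
import Mathlib.Algebra.Category.ModuleCat.Projective

/-!
Pseudo-coherent objects of the derived category of modules: characterisation by a triangle and the
two-out-of-three properties.
-/

universe u

open CategoryTheory CategoryTheory.Limits CategoryTheory.Pretriangulated CochainComplex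

attribute [local instance] HasDerivedCategory.standard

namespace Groth.L02.PC

variable {A : Type u} [CommRing A]

/-- homology of an object of the derived category -/
noncomputable abbrev HH (i : ℤ) : Dual.D A ⥤ ModuleCat.{u} A :=
  DerivedCategory.homologyFunctor (ModuleCat.{u} A) i

lemma isZero_HH_Q_iff (K : DRing.Cx A) (i : ℤ) :
    IsZero ((HH i).obj (DRing.toD K)) ↔ IsZero (K.homology i) :=
  ((DerivedCategory.homologyFunctorFactors _ i).app K).isZero_iff

lemma isZero_of_exact_zero {M N P : ModuleCat.{u} A} {f : M ⟶ N} {g : N ⟶ P} {w : f ≫ g = 0}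
    (h : (ShortComplex.mk f g w).Exact) (hM : IsZero M) (hP : IsZero P) : IsZero N :=
  h.isZero_of_both_zeros (hM.eq_of_src _ _) (hP.eq_of_tgt _ _)

/-- `f` is a bijection on homology above `m` and a surjection in degree `m` -/
def IsApprox {X Y : Dual.D A} (f : X ⟶ Y) (m : ℤ) : Prop :=
  (∀ i : ℤ, m < i → IsIso ((HH i).map f)) ∧ Epi ((HH m).map f)

lemma IsApprox.comp {X Y Z : Dual.D A} {f : X ⟶ Y} {g : Y ⟶ Z} {m : ℤ} (hf : IsApprox f m)
    (hg : IsApprox g m) : IsApprox (f ≫ g) m := by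
  refine ⟨fun i hi => ?_, ?_⟩
  · have := hf.1 i hi; have := hg.1 i hi
    rw [Functor.map_comp]; infer_instance
  · have := hf.2; have := hg.2
    rw [Functor.map_comp]; exact epi_comp _ _

lemma IsApprox.of_isIso {X Y : Dual.D A} (f : X ⟶ Y) [IsIso f] (m : ℤ) : IsApprox f m :=
  ⟨fun _ _ => inferInstance, inferInstance⟩

lemma isApprox_iff (T : Triangle (Dual.D A)) (hT : T ∈ distinguishedTriangles) (m : ℤ) :
    IsApprox T.mor₁ m ↔ ∀ i, m ≤ i → IsZero ((HH i).obj T.obj₃) := by
  constructor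
  · intro h i hi
    have he : Epi ((HH i).map T.mor₁) := by
      rcases eq_or_lt_of_le hi with rfl | hi'
      · exact h.2
      · have := h.1 i hi'; infer_instance
    have := h.1 (i + 1) (by omega)
    have h1 : (HH i).map T.mor₂ = 0 := (DerivedCategory.HomologySequence.epi_homologyMap_mor₁_iff T hT i).1 he
    have h2 : Epi ((HH i).map T.mor₂) :=
      (DerivedCategory.HomologySequence.epi_homologyMap_mor₂_iff T hT i (i + 1) rfl).2
        ((DerivedCategory.HomologySequence.mono_homologyMap_mor₁_iff T hT i (i + 1) rfl).1 inferInstance)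
    exact IsZero.of_epi_eq_zero _ h1
  · intro h
    have he : ∀ i, m ≤ i → Epi ((HH i).map T.mor₁) := fun i hi =>
      (DerivedCategory.HomologySequence.epi_homologyMap_mor₁_iff T hT i).2 ((h i hi).eq_of_tgt _ _)
    refine ⟨fun i hi => ?_, he m le_rfl⟩
    have := he i hi.le
    have : Mono ((HH i).map T.mor₁) :=
      (DerivedCategory.HomologySequence.mono_homologyMap_mor₁_iff T hT (i - 1) i (by omega)).2
        ((h (i - 1) (by omega)).eq_of_src _ _)
    exact isIso_of_mono_of_epi _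

/-- the triangle of a chain map -/
lemma mappingCone_distinguished {P K : DRing.Cx A} (f : P ⟶ K) :
    DerivedCategory.Q.mapTriangle.obj (mappingCone.triangle f) ∈ distinguishedTriangles :=
  (DerivedCategory.mem_distTriang_iff _).mpr ⟨_, _, f, ⟨Iso.refl _⟩⟩

lemma isApprox_Q_map_iff {P K : DRing.Cx A} (f : P ⟶ K) (m : ℤ) :
    IsApprox (DerivedCategory.Q.map f) m ↔ ∀ i, m ≤ i → IsZero ((mappingCone f).homology i) := by
  refine (isApprox_iff _ (mappingCone_distinguished f) m).trans (forall₂_congr fun i _ => ?_)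
  exact isZero_HH_Q_iff (mappingCone f) i

lemma isApprox_truncι (P : DRing.Cx A) (n : ℤ) : IsApprox (DerivedCategory.Q.map (truncι P n)) n := by
  rw [isApprox_Q_map_iff]
  intro i hi
  rw [← coneExact_iff (truncι P n) (i - 1) i (i + 1) (i + 2) (by omega) rfl (by omega)]
  intro p x _ hx
  refine ⟨⟨x, by rw [truncSub_eq_top P n hi]; trivial⟩, 0, Subtype.ext ?_, ?_⟩
  · exact hx.symm
  · rw [map_zero, add_zero]; rfl

lemma vanishesAbove_iff (P : DRing.Cx A) (b : ℤ) : DRing.VanishesAbove P b ↔ P.IsStrictlyLE b :=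
  (CochainComplex.isStrictlyLE_iff P b).symm

lemma isKProjective_of_vanishesAbove {P : DRing.Cx A} {b : ℤ} (hb : DRing.VanishesAbove P b)
    (hP : ∀ i, Module.Projective A (P.X i)) : P.IsKProjective := by
  have := (vanishesAbove_iff P b).1 hb
  have : ∀ i, Projective (P.X i) := fun i => by
    have := hP i
    exact (IsProjective.iff_projective (P.X i)).1 inferInstance
  exact CochainComplex.isKProjective_of_projective P b

lemma exists_chainMap {P K : DRing.Cx A} [P.IsKProjective] (φ : DRing.toD P ⟶ DRing.toD K) :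
    ∃ f : P ⟶ K, DerivedCategory.Q.map f = φ := by
  obtain ⟨k, hk⟩ := (CochainComplex.IsKProjective.Qh_map_bijective P
    ((HomotopyCategory.quotient _ _).obj K)).surjective
    (((DerivedCategory.quotientCompQhIso _).app P).hom ≫ φ ≫ ((DerivedCategory.quotientCompQhIso _).app K).inv)
  obtain ⟨f, rfl⟩ := (HomotopyCategory.quotient _ _).map_surjective k
  refine ⟨f, ?_⟩
  have h := (DerivedCategory.quotientCompQhIso (ModuleCat.{u} A)).hom.naturality f
  simp only [Functor.comp_map] at h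
  rw [hk] at h
  rw [← cancel_epi ((DerivedCategory.quotientCompQhIso _).app P).hom]
  simpa using h.symm

/-- homology vanishes in all large degrees of the given range -/
def LEH (K : Dual.D A) (n : ℤ) : Prop := ∀ i, n < i → IsZero ((HH i).obj K)

lemma exists_free_rep {K : Dual.D A} {n : ℤ} (h : LEH K n) :
    ∃ P : DRing.Cx A, DRing.VanishesAbove P n ∧ (∀ i, Module.Free A (P.X i)) ∧ P.IsKProjective ∧
      Nonempty (DRing.toD P ≅ K) := by
  have : K.IsLE n := (DerivedCategory.isLE_iff K n).2 h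
  obtain ⟨L, hL, ⟨e⟩⟩ := DerivedCategory.exists_iso_Q_obj_of_isLE K n
  obtain ⟨P, f, hP, hfree, hf⟩ := exists_free_resolution L n ((vanishesAbove_iff L n).2 hL)
  refine ⟨P, hP, hfree, isKProjective_of_vanishesAbove hP fun i => ?_, ⟨asIso (DerivedCategory.Q.map f) ≪≫ e.symm⟩⟩
  have := hfree i
  infer_instance

lemma hom_eq_zero {E : DRing.Cx A} [E.IsKProjective] {k : ℤ} (hE : ∀ i, i < k → IsZero (E.X i))
    {C : Dual.D A} (hC : LEH C (k - 1)) (φ : DRing.toD E ⟶ C) : φ = 0 := by
  have : C.IsLE (k - 1) := (DerivedCategory.isLE_iff C _).2 hC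
  obtain ⟨L, hL, ⟨e⟩⟩ := DerivedCategory.exists_iso_Q_obj_of_isLE C (k - 1)
  obtain ⟨f, hf⟩ := exists_chainMap (φ ≫ e.hom)
  have h0 : f = 0 := by
    ext i : 1
    by_cases hi : i < k
    · exact (hE i hi).eq_of_src _ _
    · exact (((vanishesAbove_iff L _).2 hL) i (by omega)).eq_of_tgt _ _
  rw [h0, Functor.map_zero] at hf
  exact (cancel_mono e.hom).1 (by rw [← hf, zero_comp])

/-- witness of pseudo-coherence, in the language of `IsApprox` -/
lemma pc_iff (m : ℤ) (K : Dual.D A) :
    DRing.IsPseudoCoherent A m K ↔ ∃ (E : DRing.Cx A) (a b : ℤ) (α : DRing.toD E ⟶ K),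
      DRing.VanishesOutside E a b ∧ DRing.TermwiseFiniteFree E ∧ IsApprox α m := Iff.rfl

lemma pc_of_approx {X K : Dual.D A} (f : X ⟶ K) {m : ℤ} (hf : IsApprox f m)
    (h : DRing.IsPseudoCoherent A m X) : DRing.IsPseudoCoherent A m K := by
  obtain ⟨E, a, b, α, h1, h2, h3⟩ := (pc_iff m X).1 h
  exact (pc_iff m K).2 ⟨E, a, b, α ≫ f, h1, h2, h3.comp hf⟩

lemma pc_of_iso {X K : Dual.D A} (e : X ≅ K) {m : ℤ} (h : DRing.IsPseudoCoherent A m X) :
    DRing.IsPseudoCoherent A m K := pc_of_approx e.hom (IsApprox.of_isIso _ m) h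

lemma pc_mono {K : Dual.D A} {m m' : ℤ} (hm : m ≤ m') (h : DRing.IsPseudoCoherent A m K) :
    DRing.IsPseudoCoherent A m' K := by
  obtain ⟨E, a, b, α, h1, h2, h3⟩ := (pc_iff m K).1 h
  refine (pc_iff m' K).2 ⟨E, a, b, α, h1, h2, fun i hi => h3.1 i (by omega), ?_⟩
  rcases eq_or_lt_of_le hm with rfl | hm'
  · exact h3.2
  · have := h3.1 m' hm'; infer_instance

lemma pc_of_bounded_free {E : DRing.Cx A} {a b : ℤ} (h1 : DRing.VanishesOutside E a b)
    (h2 : DRing.TermwiseFiniteFree E) (m : ℤ) : DRing.IsPseudoCoherent A m (DRing.toD E) :=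
  (pc_iff m _).2 ⟨E, a, b, 𝟙 _, h1, h2, IsApprox.of_isIso _ m⟩

lemma isKProjective_bounded {E : DRing.Cx A} {a b : ℤ} (h1 : DRing.VanishesOutside E a b)
    (h2 : DRing.TermwiseFiniteFree E) : E.IsKProjective :=
  isKProjective_of_vanishesAbove (b := b) (fun i hi => h1 i (Or.inr hi)) fun i => by
    have := (h2 i).2
    infer_instance

/-- a witness may be chosen to vanish below `m` -/
lemma exists_witness_ge {K : Dual.D A} {m : ℤ} (h : DRing.IsPseudoCoherent A m K) :
    ∃ (E : DRing.Cx A) (b : ℤ) (α : DRing.toD E ⟶ K),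
      DRing.VanishesOutside E m b ∧ DRing.TermwiseFiniteFree E ∧ IsApprox α m := by
  obtain ⟨E, a, b, α, h1, h2, h3⟩ := (pc_iff m K).1 h
  exact ⟨trunc E m, b, DerivedCategory.Q.map (truncι E m) ≫ α,
    trunc_vanishesOutside E m b (fun i hi => h1 i (Or.inr hi)), trunc_finiteFree E m (fun i _ => h2 i),
    (isApprox_truncι E m).comp h3⟩

lemma exists_LEH {K : Dual.D A} {m : ℤ} (h : DRing.IsPseudoCoherent A m K) :
    ∃ n, LEH K n := by
  obtain ⟨E, a, b, α, h1, h2, h3⟩ := (pc_iff m K).1 h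
  refine ⟨max b m, fun i hi => ?_⟩
  have := h3.1 i (by omega)
  refine IsZero.of_iso ?_ (asIso ((HH i).map α)).symm
  rw [isZero_HH_Q_iff, ← HomologicalComplex.exactAt_iff_isZero_homology]
  exact ShortComplex.exact_of_isZero_X₂ _ (h1 i (Or.inr (by omega)))

lemma δ_naturality {T T' : Triangle (Dual.D A)} (φ : T ⟶ T') (i j : ℤ) (hij : i + 1 = j) :
    DerivedCategory.HomologySequence.δ T i j hij ≫ (HH j).map φ.hom₁ =
      (HH i).map φ.hom₃ ≫ DerivedCategory.HomologySequence.δ T' i j hij := by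
  show (HH 0).shiftMap T.mor₃ i j _ ≫ ((HH 0).shift j).map φ.hom₁ = _ ≫ (HH 0).shiftMap T'.mor₃ i j _
  rw [← Functor.shiftMap_comp, φ.comm₃, Functor.shiftMap_comp']
  rfl

lemma apply_eq {M N : ModuleCat.{u} A} {f g : M ⟶ N} (h : f = g) (x : M) : f x = g x := by rw [h]

/-- five lemma for a morphism of triangles -/
lemma isApprox_hom₃ {T T' : Triangle (Dual.D A)} (hT : T ∈ distinguishedTriangles)
    (hT' : T' ∈ distinguishedTriangles) (φ : T ⟶ T') (m : ℤ) (h₁ : IsApprox φ.hom₁ (m + 1))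
    (h₂ : IsApprox φ.hom₂ m) : IsApprox φ.hom₃ m := by
  have surj : ∀ i, m ≤ i → Function.Surjective ((HH i).map φ.hom₃) := by
    intro i hi z'
    have e1 : Function.Surjective ((HH (i + 1)).map φ.hom₁) := by
      rw [← ModuleCat.epi_iff_surjective]
      rcases eq_or_lt_of_le hi with rfl | hi'
      · exact h₁.2
      · have := h₁.1 (i + 1) (by omega); infer_instance
    have e2 : Function.Surjective ((HH i).map φ.hom₂) := by
      rw [← ModuleCat.epi_iff_surjective]
      rcases eq_or_lt_of_le hi with rfl | hi'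
      · exact h₂.2
      · have := h₂.1 i hi'; infer_instance
    have m2 : Function.Injective ((HH (i + 1)).map φ.hom₂) := by
      rw [← ModuleCat.mono_iff_injective]
      have := h₂.1 (i + 1) (by omega); infer_instance
    obtain ⟨x, hx⟩ := e1 (DerivedCategory.HomologySequence.δ T' i (i + 1) rfl z')
    have hx0 : (HH (i + 1)).map T.mor₁ x = 0 := by
      apply m2
      rw [map_zero, ← ModuleCat.comp_apply, ← Functor.map_comp, φ.comm₁, Functor.map_comp,
        ModuleCat.comp_apply, hx, ← ModuleCat.comp_apply,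
        DerivedCategory.HomologySequence.δ_comp T' hT' i (i + 1) rfl]
      rfl
    obtain ⟨z, hz⟩ := (ShortComplex.moduleCat_exact_iff _).1
      (DerivedCategory.HomologySequence.exact₁ T hT i (i + 1) rfl) x hx0
    have hd : DerivedCategory.HomologySequence.δ T' i (i + 1) rfl (z' - (HH i).map φ.hom₃ z) = 0 := by
      rw [map_sub, ← ModuleCat.comp_apply, ← δ_naturality φ i (i + 1) rfl, ModuleCat.comp_apply]
      rw [show DerivedCategory.HomologySequence.δ T i (i + 1) rfl z = x from hz, hx, sub_self]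
    obtain ⟨y', hy'⟩ := (ShortComplex.moduleCat_exact_iff _).1
      (DerivedCategory.HomologySequence.exact₃ T' hT' i (i + 1) rfl) _ hd
    obtain ⟨y, hy⟩ := e2 y'
    refine ⟨z + (HH i).map T.mor₂ y, ?_⟩
    rw [map_add, ← ModuleCat.comp_apply ((HH i).map T.mor₂), ← Functor.map_comp, φ.comm₂, Functor.map_comp,
      ModuleCat.comp_apply, hy, show (HH i).map T'.mor₂ y' = _ from hy', add_sub_cancel]
  refine ⟨fun i hi => ?_, (ModuleCat.epi_iff_surjective _).2 (surj m le_rfl)⟩
  have : Epi ((HH i).map φ.hom₃) := (ModuleCat.epi_iff_surjective _).2 (surj i hi.le)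
  have : Mono ((HH i).map φ.hom₃) := by
    rw [ModuleCat.mono_iff_injective, injective_iff_map_eq_zero]
    intro z hz
    have n1 : Function.Injective ((HH (i + 1)).map φ.hom₁) := by
      rw [← ModuleCat.mono_iff_injective]
      have := h₁.1 (i + 1) (by omega); infer_instance
    have e1 : Function.Surjective ((HH i).map φ.hom₁) := by
      rw [← ModuleCat.epi_iff_surjective]
      rcases eq_or_lt_of_le (show m + 1 ≤ i by omega) with rfl | hi'
      · exact h₁.2
      · have := h₁.1 i hi'; infer_instance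
    have n2 : Function.Injective ((HH i).map φ.hom₂) := by
      rw [← ModuleCat.mono_iff_injective]
      have := h₂.1 i hi; infer_instance
    obtain ⟨y, hy⟩ := (ShortComplex.moduleCat_exact_iff _).1
      (DerivedCategory.HomologySequence.exact₃ T hT i (i + 1) rfl) z (n1 (by
        rw [map_zero, ← ModuleCat.comp_apply, δ_naturality φ i (i + 1) rfl, ModuleCat.comp_apply, hz, map_zero]))
    obtain ⟨x', hx'⟩ := (ShortComplex.moduleCat_exact_iff _).1
      (DerivedCategory.HomologySequence.exact₂ T' hT' i) ((HH i).map φ.hom₂ y) (by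
        show (HH i).map T'.mor₂ _ = 0
        rw [← ModuleCat.comp_apply, ← Functor.map_comp, ← φ.comm₂, Functor.map_comp, ModuleCat.comp_apply,
          show (HH i).map T.mor₂ y = z from hy, hz])
    obtain ⟨x, rfl⟩ := e1 x'
    have hxy : (HH i).map T.mor₁ x = y := n2 (by
      rw [← ModuleCat.comp_apply, ← Functor.map_comp, φ.comm₁, Functor.map_comp, ModuleCat.comp_apply]
      exact hx')
    rw [← show (HH i).map T.mor₂ y = z from hy, ← hxy, ← ModuleCat.comp_apply, ← Functor.map_comp,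
      comp_distTriang_mor_zero₁₂ _ hT, Functor.map_zero]
    rfl
  exact isIso_of_mono_of_epi _

/-- two out of three, third place -/
theorem pc_third (T : Triangle (Dual.D A)) (hT : T ∈ distinguishedTriangles) (m : ℤ)
    (h₁ : DRing.IsPseudoCoherent A (m + 1) T.obj₁) (h₂ : DRing.IsPseudoCoherent A m T.obj₂) :
    DRing.IsPseudoCoherent A m T.obj₃ := by
  obtain ⟨E₁, b₁, α₁, v₁, f₁, a₁⟩ := exists_witness_ge h₁
  obtain ⟨E₂, a₂', b₂, α₂, v₂, f₂, a₂⟩ := (pc_iff m _).1 h₂
  have := isKProjective_bounded v₁ f₁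
  obtain ⟨C₂, p, q, hS⟩ := distinguished_cocone_triangle α₂
  have hC : LEH C₂ (m + 1 - 1) := fun i hi => (isApprox_iff _ hS m).1 a₂ i (by omega)
  obtain ⟨g, hg⟩ := Triangle.coyoneda_exact₂ _ hS (α₁ ≫ T.mor₁)
    (hom_eq_zero (fun i hi => v₁ i (Or.inl hi)) hC _)
  obtain ⟨f, hf⟩ := exists_chainMap g
  obtain ⟨c, hc₁, hc₂⟩ := complete_distinguished_triangle_morphism _ _ (mappingCone_distinguished f) hT α₁ α₂
    (by
      show DerivedCategory.Q.map f ≫ α₂ = α₁ ≫ T.mor₁
      rw [hf]; exact hg.symm)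
  have h3 := isApprox_hom₃ (mappingCone_distinguished f) hT
    (Triangle.homMk _ _ α₁ α₂ c (by
      show DerivedCategory.Q.map f ≫ α₂ = α₁ ≫ T.mor₁
      rw [hf]; exact hg.symm) hc₁ hc₂) m a₁ a₂
  refine (pc_iff m _).2 ⟨mappingCone f, min m a₂', max b₁ b₂, c, fun i hi => ?_, fun i => ?_, h3⟩
  · rw [mappingCone.isZero_X_iff]
    exact ⟨v₁ _ (by omega), v₂ _ (by omega)⟩
  · obtain ⟨_, _⟩ := f₁ (i + 1)
    obtain ⟨_, _⟩ := f₂ i
    let e := coneEquiv f i (i + 1) rfl
    exact ⟨Module.Finite.equiv e.symm, Module.Free.of_equiv e.symm⟩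

lemma isApprox_shift {X Y : Dual.D A} {f : X ⟶ Y} {m a n : ℤ} (h : IsApprox f m) (hn : a + n = m) :
    IsApprox (f⟦a⟧') n := by
  have key : ∀ i j, a + i = j → (IsIso ((HH j).map f) → IsIso ((HH i).map (f⟦a⟧'))) ∧
      (Epi ((HH j).map f) → Epi ((HH i).map (f⟦a⟧'))) := by
    intro i j hij
    let e : ∀ Z : Dual.D A, (HH i).obj (Z⟦a⟧) ≅ (HH j).obj Z := fun Z =>
      ((DerivedCategory.homologyFunctor (ModuleCat.{u} A) 0).shiftIso a i j hij).app Z
    have hnat : (HH i).map (f⟦a⟧') = (e X).hom ≫ (HH j).map f ≫ (e Y).inv := by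
      have hn' : (HH i).map (f⟦a⟧') ≫ (e Y).hom = (e X).hom ≫ (HH j).map f :=
        ((DerivedCategory.homologyFunctor (ModuleCat.{u} A) 0).shiftIso a i j hij).hom.naturality f
      rw [← Category.assoc, ← hn', Category.assoc, Iso.hom_inv_id, Category.comp_id]
    constructor <;> intro hh <;> rw [hnat] <;> infer_instance
  exact ⟨fun i hi => (key i (a + i) rfl).1 (h.1 _ (by omega)), (key n m hn).2 h.2⟩

lemma pc_shift {K : Dual.D A} {m : ℤ} (h : DRing.IsPseudoCoherent A m K) (a n : ℤ) (hn : a + n = m) :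
    DRing.IsPseudoCoherent A n (K⟦a⟧) := by
  obtain ⟨E, a', b', α, v, f, h3⟩ := (pc_iff m K).1 h
  refine pc_of_approx (α⟦a⟧') (isApprox_shift h3 hn) (pc_of_iso ((DerivedCategory.Q.commShiftIso a).app E)
    (pc_of_bounded_free (a := a' - a) (b := b' - a) (E := E⟦a⟧) (fun i hi => ?_) (fun i => ?_) n))
  · exact v (i + a) (by omega)
  · exact f (i + a)

/-- two out of three, middle place -/
theorem pc_second (T : Triangle (Dual.D A)) (hT : T ∈ distinguishedTriangles) (m : ℤ)
    (h₁ : DRing.IsPseudoCoherent A m T.obj₁) (h₃ : DRing.IsPseudoCoherent A m T.obj₃) :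
    DRing.IsPseudoCoherent A m T.obj₂ :=
  pc_third T.invRotate (inv_rot_of_distTriang _ hT) m (pc_shift h₃ (-1) (m + 1) (by omega)) h₁

/-- two out of three, first place -/
theorem pc_first (T : Triangle (Dual.D A)) (hT : T ∈ distinguishedTriangles) (m : ℤ)
    (h₂ : DRing.IsPseudoCoherent A (m + 1) T.obj₂) (h₃ : DRing.IsPseudoCoherent A m T.obj₃) :
    DRing.IsPseudoCoherent A (m + 1) T.obj₁ :=
  pc_second T.invRotate (inv_rot_of_distTriang _ hT) (m + 1) (pc_shift h₃ (-1) (m + 1) (by omega)) h₂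

end Groth.L02.PC
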