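import Groth.Agent.L02.PC.Basic
import Mathlib.Algebra.Module.FinitePresentation
import Mathlib.RingTheory.Finiteness.Projective

/-!
Bounded above complexes of projective modules that are exact in high degrees, and finiteness of
homology of pseudo-coherent objects.
-/

universe u

open CategoryTheory CategoryTheory.Limits CategoryTheory.Pretriangulated CochainComplex

attribute [local instance] HasDerivedCategory.standard

namespace Groth.L02.PC

variable {A : Type u} [CommRing A]

/-- the cycles in degree `i` -/
abbrev cyc (P : DRing.Cx A) (i : ℤ) : Submodule A (P.X i) := LinearMap.ker (P.d i (i + 1)).hom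

lemma range_le_cyc (P : DRing.Cx A) (i : ℤ) : LinearMap.range (P.d (i - 1) i).hom ≤ cyc P i := by
  rintro _ ⟨x, rfl⟩
  show (P.d (i - 1) i ≫ P.d i (i + 1)).hom x = 0
  rw [P.d_comp_d]; rfl

lemma range_eq_cyc {P : DRing.Cx A} {i : ℤ} (h : IsZero (P.homology i)) :
    LinearMap.range (P.d (i - 1) i).hom = cyc P i := by
  rw [← HomologicalComplex.exactAt_iff_isZero_homology,
    HomologicalComplex.exactAt_iff' _ (i - 1) i (i + 1) (by simp) (by simp)] at h
  exact h.moduleCat_range_eq_ker

/-- the splitting data of the cycles in degree `i` -/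
def SplitAt (P : DRing.Cx A) (i : ℤ) : Prop :=
  ∃ r : P.X i →ₗ[A] cyc P i, ∀ x : cyc P i, r x = x

lemma projective_cyc {P : DRing.Cx A} {i : ℤ} [Module.Projective A (P.X i)] (h : SplitAt P i) :
    Module.Projective A (cyc P i) := by
  obtain ⟨r, hr⟩ := h
  exact Module.Projective.of_split (cyc P i).subtype r (LinearMap.ext hr)

lemma finite_cyc {P : DRing.Cx A} {i : ℤ} [Module.Finite A (P.X i)] (h : SplitAt P i) :
    Module.Finite A (cyc P i) := by
  obtain ⟨r, hr⟩ := h
  exact Module.Finite.of_surjective r fun x => ⟨x, hr x⟩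

variable {P : DRing.Cx A} {b n : ℤ}

/-- cycles split off in degrees `≥ n` when the complex is exact above `n` -/
theorem splitAt_of_exact (hb : DRing.VanishesAbove P b) (hP : ∀ i, Module.Projective A (P.X i))
    (hex : ∀ i, n < i → IsZero (P.homology i)) : ∀ i, n ≤ i → SplitAt P i := by
  suffices ∀ k : ℕ, ∀ i, n ≤ i → b < i + k → SplitAt P i from
    fun i hi => this ((b - i + 1).toNat) i hi (by omega)
  intro k
  induction k with
  | zero =>
    intro i _ hbi
    have := ModuleCat.subsingleton_of_isZero (hb i (by omega))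
    exact ⟨0, fun x => Subtype.ext (Subsingleton.elim _ _)⟩
  | succ k ih =>
    intro i hi hbi
    have hs := ih (i + 1) (by omega) (by omega)
    have := hP (i + 1)
    have := projective_cyc hs
    let D : P.X i →ₗ[A] cyc P (i + 1) := (P.d i (i + 1)).hom.codRestrict _ fun x => by
      show (P.d i (i + 1) ≫ P.d (i + 1) (i + 1 + 1)).hom x = 0
      rw [P.d_comp_d]; rfl
    have hD : Function.Surjective D := by
      intro z
      have h1 := range_eq_cyc (hex (i + 1) (by omega))
      rw [show i + 1 - 1 = i by omega] at h1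
      obtain ⟨x, hx⟩ := h1.ge z.2
      exact ⟨x, Subtype.ext hx⟩
    obtain ⟨σ, hσ⟩ := Module.projective_lifting_property D LinearMap.id hD
    refine ⟨(LinearMap.id - σ.comp D).codRestrict _ (fun x => ?hmem), fun x => ?hfix⟩
    case hmem =>
      have := congrArg Subtype.val (LinearMap.congr_fun hσ (D x))
      simp only [LinearMap.comp_apply, LinearMap.id_apply] at this
      show (P.d i (i + 1)).hom (x - σ (D x)) = 0
      rw [map_sub, sub_eq_zero]
      exact this.symm
    case hfix =>
      have : D x.1 = 0 := Subtype.ext x.2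
      apply Subtype.ext
      show x.1 - σ (D x.1) = x.1
      rw [this, map_zero, sub_zero]

/-- in degrees `≥ n`, a bounded above projective complex exact in degrees `≥ n` has a contraction -/
theorem exists_contraction (hb : DRing.VanishesAbove P b) (hP : ∀ i, Module.Projective A (P.X i))
    (hex : ∀ i, n ≤ i → IsZero (P.homology i)) (i : ℤ) (hi : n ≤ i) :
    ∃ (s : P.X i ⟶ P.X (i - 1)) (t : P.X (i + 1) ⟶ P.X i),
      s ≫ P.d (i - 1) i + P.d i (i + 1) ≫ t = 𝟙 _ := by
  have hsp := splitAt_of_exact hb hP (n := i) fun j hj => hex j (by omega)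
  obtain ⟨r, hr⟩ := hsp i le_rfl
  obtain ⟨r', hr'⟩ := hsp (i + 1) (by omega)
  have hproj : ∀ j, n < j → Module.Projective A (cyc P j) ∧
      ∀ z : cyc P j, ∃ x, (P.d (j - 1) j).hom x = z := by
    intro j hj
    have := hP j
    refine ⟨projective_cyc (splitAt_of_exact hb hP (n := j) (fun l hl => hex l (by omega)) j le_rfl),
      fun z => (range_eq_cyc (hex j hj.le)).ge z.2⟩
  have := hP i
  have := hP (i + 1)
  have := projective_cyc ⟨r, hr⟩
  have := projective_cyc ⟨r', hr'⟩
  let D : P.X (i - 1) →ₗ[A] cyc P i := (P.d (i - 1) i).hom.codRestrict _ fun x => range_le_cyc P i ⟨x, rfl⟩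
  have hD : Function.Surjective D := fun z => by
    obtain ⟨x, hx⟩ := (range_eq_cyc (hex i hi)).ge z.2
    exact ⟨x, Subtype.ext hx⟩
  let D' : P.X i →ₗ[A] cyc P (i + 1) := (P.d i (i + 1)).hom.codRestrict _ fun x => by
    show (P.d i (i + 1) ≫ P.d (i + 1) (i + 1 + 1)).hom x = 0
    rw [P.d_comp_d]; rfl
  have hD' : Function.Surjective D' := fun z => by
    obtain ⟨-, h1⟩ := hproj (i + 1) (by omega)
    obtain ⟨x, hx⟩ := h1 z
    revert x
    rw [show i + 1 - 1 = i by omega]
    intro x hx
    exact ⟨x, Subtype.ext hx⟩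
  obtain ⟨σ, hσ⟩ := Module.projective_lifting_property D LinearMap.id hD
  obtain ⟨τ, hτ⟩ := Module.projective_lifting_property D' LinearMap.id hD'
  let τ' : P.X (i + 1) →ₗ[A] P.X i := τ.comp r' - (cyc P i).subtype.comp (r.comp (τ.comp r'))
  refine ⟨ModuleCat.ofHom (σ.comp r), ModuleCat.ofHom τ', ModuleCat.hom_ext (LinearMap.ext fun x => ?_)⟩
  show (P.d (i - 1) i).hom (σ (r x)) + τ' ((P.d i (i + 1)).hom x) = x
  have h1 : (P.d (i - 1) i).hom (σ (r x)) = (r x).1 :=
    congrArg Subtype.val (LinearMap.congr_fun hσ (r x))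
  have h2 : r' ((P.d i (i + 1)).hom x) = D' x := hr' (D' x)
  have h3 : r (x - τ (D' x)) = ⟨x - τ (D' x), by
      show (P.d i (i + 1)).hom (x - τ (D' x)) = 0
      rw [map_sub, sub_eq_zero]
      exact (congrArg Subtype.val (LinearMap.congr_fun hτ (D' x))).symm⟩ := hr ⟨_, _⟩
  have h4 := congrArg Subtype.val h3
  simp only [map_sub, Submodule.coe_sub] at h4
  simp only [τ', LinearMap.sub_apply, LinearMap.comp_apply, h1, h2, Submodule.subtype_apply]
  linear_combination (norm := module) h4

/-- additive functors preserve this exactness -/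
theorem isZero_homology_map (hb : DRing.VanishesAbove P b) (hP : ∀ i, Module.Projective A (P.X i))
    (hex : ∀ i, n ≤ i → IsZero (P.homology i)) {B : Type u} [CommRing B]
    (F : ModuleCat.{u} A ⥤ ModuleCat.{u} B) [F.Additive] (i : ℤ) (hi : n ≤ i) :
    IsZero (((F.mapHomologicalComplex (ComplexShape.up ℤ)).obj P).homology i) := by
  obtain ⟨s, t, hst⟩ := exists_contraction hb hP hex i hi
  have h := congrArg (fun φ => F.map φ) hst
  simp only [Functor.map_add, Functor.map_comp, CategoryTheory.Functor.map_id] at h
  rw [← HomologicalComplex.exactAt_iff_isZero_homology,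
    HomologicalComplex.exactAt_iff' _ (i - 1) i (i + 1) (by simp) (by simp),
    ShortComplex.moduleCat_exact_iff]
  intro z hz
  refine ⟨F.map s z, ?_⟩
  have h2 : (F.map (P.d (i - 1) i)).hom ((F.map s).hom z) +
      (F.map t).hom ((F.map (P.d i (i + 1))).hom z) = z := apply_eq h z
  rw [show (F.map (P.d i (i + 1))).hom z = 0 from hz, map_zero, add_zero] at h2
  exact h2

/-- finitely generated cycles -/
theorem finite_cyc_of_exact (hb : DRing.VanishesAbove P b) (hP : ∀ i, Module.Projective A (P.X i))
    [Module.Finite A (P.X n)] (hex : ∀ i, n < i → IsZero (P.homology i)) :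
    Module.Finite A (cyc P n) ∧ Module.Projective A (cyc P n) := by
  have := hP n
  exact ⟨finite_cyc (splitAt_of_exact hb hP hex n le_rfl),
    projective_cyc (splitAt_of_exact hb hP hex n le_rfl)⟩

/-- homology as a quotient of the cycles -/
noncomputable def homologyEquiv (P : DRing.Cx A) (i : ℤ) :
    P.homology i ≃ₗ[A] (cyc P i ⧸ LinearMap.range (P.sc' (i - 1) i (i + 1)).moduleCatToCycles) :=
  ((P.homologyIsoSc' (i - 1) i (i + 1) (by simp) (by simp)) ≪≫
    (P.sc' (i - 1) i (i + 1)).moduleCatHomologyIso).toLinearEquiv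

theorem finite_homology (hb : DRing.VanishesAbove P b) (hP : ∀ i, Module.Projective A (P.X i))
    (hfin : ∀ i, Module.Finite A (P.X i)) (hex : ∀ i, n < i → IsZero (P.homology i)) :
    Module.Finite A (P.homology n) ∧ Module.FinitePresentation A (P.homology n) := by
  have := hfin n
  have := hfin (n - 1)
  obtain ⟨h1, h2⟩ := finite_cyc_of_exact hb hP hex
  have : Module.FinitePresentation A (LinearMap.ker (P.sc' (n - 1) n (n + 1)).g.hom) :=
    (Module.finitePresentation_of_projective A (cyc P n) : Module.FinitePresentation A (cyc P n))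
  have : Module.Finite A (P.sc' (n - 1) n (n + 1)).X₁ := hfin (n - 1)
  have : Module.FinitePresentation A
      (cyc P n ⧸ LinearMap.range (P.sc' (n - 1) n (n + 1)).moduleCatToCycles) :=
    Module.finitePresentation_of_surjective
      (LinearMap.range (P.sc' (n - 1) n (n + 1)).moduleCatToCycles).mkQ (Submodule.mkQ_surjective _)
      (by rw [Submodule.ker_mkQ, LinearMap.range_eq_map]; exact Module.Finite.fg_top.map _)
  have h3 : Module.FinitePresentation A (P.homology n) :=
    Module.FinitePresentation.of_equiv (homologyEquiv P n).symm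
  exact ⟨inferInstance, h3⟩

/-- finiteness of the top homology of a pseudo-coherent object -/
theorem pc_finite {K : Dual.D A} {m : ℤ} (hK : DRing.IsPseudoCoherent A m K) (h : LEH K m) :
    Module.Finite A ((HH m).obj K) := by
  obtain ⟨E, a, b', α, v, f, a₁⟩ := (pc_iff m K).1 hK
  have hex : ∀ i, m < i → IsZero (E.homology i) := fun i hi => by
    have := a₁.1 i hi
    exact (isZero_HH_Q_iff E i).1 ((h i hi).of_iso (asIso ((HH i).map α)))
  have := (finite_homology (b := b') (fun i hi => v i (Or.inr hi))
    (fun i => by have := (f i).2; infer_instance) (fun i => (f i).1) hex).1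
  have : Module.Finite A ((HomologicalComplex.homologyFunctor (ModuleCat.{u} A) (ComplexShape.up ℤ) m).obj E) :=
    this
  have : Module.Finite A ((HH m).obj (DRing.toD E)) :=
    Module.Finite.equiv ((DerivedCategory.homologyFunctorFactors _ m).app E).symm.toLinearEquiv
  have := a₁.2
  exact Module.Finite.of_surjective ((HH m).map α).hom ((ModuleCat.epi_iff_surjective _).1 inferInstance)

/-- finite presentation of the top homology of a pseudo-coherent object -/
theorem pc_finitePresentation {K : Dual.D A} {m : ℤ} (hK : DRing.IsPseudoCoherent A m K)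
    (h : LEH K (m + 1)) : Module.FinitePresentation A ((HH (m + 1)).obj K) := by
  obtain ⟨E, a, b', α, v, f, a₁⟩ := (pc_iff m K).1 hK
  have hex : ∀ i, m + 1 < i → IsZero (E.homology i) := fun i hi => by
    have := a₁.1 i (by omega)
    exact (isZero_HH_Q_iff E i).1 ((h i hi).of_iso (asIso ((HH i).map α)))
  have := (finite_homology (b := b') (fun i hi => v i (Or.inr hi))
    (fun i => by have := (f i).2; infer_instance) (fun i => (f i).1) hex).2
  have : Module.FinitePresentation A
      ((HomologicalComplex.homologyFunctor (ModuleCat.{u} A) (ComplexShape.up ℤ) (m + 1)).obj E) := this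
  have := a₁.1 (m + 1) (by omega)
  exact Module.FinitePresentation.of_equiv
    (((DerivedCategory.homologyFunctorFactors _ (m + 1)).app E).symm ≪≫
      asIso ((HH (m + 1)).map α)).toLinearEquiv

end Groth.L02.PC
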