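import Groth.Agent.L02.PC.Finite
import Groth.Prelude.Def_DDual2
import Mathlib.Algebra.Category.ModuleCat.Descent
import Mathlib.Algebra.Homology.ShortComplex.PreservesHomology
import Mathlib.Algebra.Homology.Single
import Mathlib.RingTheory.Localization.BaseChange
import Mathlib.RingTheory.Localization.Finiteness
import Mathlib.RingTheory.Flat.Stability

/-!
Pseudo-coherence of a complex of modules is local on the base.
-/

universe u

open CategoryTheory CategoryTheory.Limits CategoryTheory.Pretriangulated CochainComplex TensorProduct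

attribute [local instance] HasDerivedCategory.standard

namespace Groth.L02.PC

theorem extendScalars_equiv {R S : Type u} [CommRing R] [CommRing S] [inst : Algebra R S] (M : ModuleCat.{u} R) :
    Nonempty ((ModuleCat.extendScalars.{u, u, u} (algebraMap R S)).obj M ≃ₗ[S] (S ⊗[R] M)) := by
  have h : inst = (algebraMap R S).toAlgebra := Algebra.algebra_ext _ _ fun _ => rfl
  generalize algebraMap R S = φ at h
  subst h
  exact ⟨LinearEquiv.refl S _⟩

theorem nonempty_equiv_localizedModule {R : Type u} [CommRing R] (g : R) (M : ModuleCat.{u} R) :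
    Nonempty ((ModuleCat.extendScalars.{u, u, u} (algebraMap R (Localization.Away g))).obj M ≃ₗ[Localization.Away g]
      LocalizedModule.Away g M) := by
  obtain ⟨e⟩ := extendScalars_equiv (S := Localization.Away g) M
  exact ⟨e.trans (LocalizedModule.equivTensorProduct (Submonoid.powers g) M).symm⟩

variable {R : Type u} [CommRing R] {r : ℕ} {f : Fin r → R} (hf : Ideal.span (Set.range f) = ⊤)

/-- localization at `f i`, on modules -/
noncomputable abbrev locF (f : Fin r → R) (i : Fin r) :
    ModuleCat.{u} R ⥤ ModuleCat.{u} (Localization.Away (f i)) :=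
  ModuleCat.extendScalars.{u, u, u} (algebraMap R (Localization.Away (f i)))

include hf in
theorem finite_of_local (M : ModuleCat.{u} R)
    (h : ∀ i, Module.Finite (Localization.Away (f i)) ((locF f i).obj M)) : Module.Finite R M := by
  classical
  refine Module.Finite.of_localizationSpan_finite (Finset.univ.image f) (by simpa using hf) fun g => ?_
  obtain ⟨i, -, hi⟩ := Finset.mem_image.mp g.2
  obtain ⟨g, hg⟩ := g
  dsimp only at hi ⊢
  subst hi
  obtain ⟨e⟩ := nonempty_equiv_localizedModule (f i) M
  have := h i
  exact Module.Finite.equiv e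

include hf in
theorem isZero_of_local (M : ModuleCat.{u} R) (h : ∀ i, IsZero ((locF f i).obj M)) : IsZero M := by
  have : Subsingleton M := by
    refine subsingleton_of_forall_eq 0 fun x => ?_
    by_contra hx
    have htop : Ideal.span (Set.range f) ≤ (Submodule.span R {x}).annihilator.radical := by
      rw [Ideal.span_le]
      rintro _ ⟨i, rfl⟩
      obtain ⟨e⟩ := nonempty_equiv_localizedModule (f i) M
      have := ModuleCat.subsingleton_of_isZero (h i)
      have := e.symm.toEquiv.subsingleton
      obtain ⟨s, hs⟩ := LocalizedModule.mk_eq.mp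
        (Subsingleton.elim (LocalizedModule.mk x (1 : Submonoid.powers (f i))) (LocalizedModule.mk 0 1))
      obtain ⟨k, hk⟩ := s.2
      refine ⟨k, Submodule.mem_annihilator_span_singleton _ _ |>.2 ?_⟩
      simp only [one_smul, smul_zero, Submonoid.smul_def] at hs
      simp only at hk
      rw [hk]
      exact hs
    rw [hf, top_le_iff, Ideal.radical_eq_top] at htop
    apply hx
    have : (1 : R) ∈ (Submodule.span R {x}).annihilator := htop ▸ trivial
    rw [Submodule.mem_annihilator_span_singleton, one_smul] at this
    exact this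
  exact ModuleCat.isZero_of_subsingleton M

/-- localization commutes with homology -/
noncomputable def locHomologyIso (f : Fin r → R) (i : Fin r) (C : DRing.Cx R) (n : ℤ) :
    (((locF f i).mapHomologicalComplex (ComplexShape.up ℤ)).obj C).homology n ≅ (locF f i).obj (C.homology n) :=
  haveI : PreservesFiniteLimits (locF f i) :=
    ModuleCat.preservesFiniteLimits_extendScalars_of_flat (RingHom.flat_algebraMap_iff.mpr inferInstance)
  haveI : (locF f i).IsLeftAdjoint :=
    (ModuleCat.extendRestrictScalarsAdj.{u, u, u} (algebraMap R (Localization.Away (f i)))).isLeftAdjoint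
  haveI : PreservesFiniteColimits (locF f i) := inferInstance
  (C.sc n).mapHomologyIso (locF f i)

lemma pc_of_LEH {A : Type u} [CommRing A] {K : Dual.D A} {n : ℤ} (h : LEH K n) :
    DRing.IsPseudoCoherent A (n + 1) K := by
  let E : DRing.Cx A :=
    { X := fun _ => ModuleCat.of A PUnit
      d := fun _ _ => 0
      shape := fun _ _ _ => rfl
      d_comp_d' := fun _ _ _ _ _ => comp_zero }
  have hE : ∀ i, IsZero (E.X i) := fun i => ModuleCat.isZero_of_subsingleton _
  have hH : ∀ i, IsZero ((HH i).obj (DRing.toD E)) := fun i => by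
    rw [isZero_HH_Q_iff, ← HomologicalComplex.exactAt_iff_isZero_homology]
    exact ShortComplex.exact_of_isZero_X₂ _ (hE i)
  refine (pc_iff _ K).2 ⟨E, 0, 0, 0, fun i _ => hE i, fun i => ⟨inferInstanceAs (Module.Finite A PUnit),
    inferInstanceAs (Module.Free A PUnit)⟩, fun i hi => ?_, ?_⟩
  · exact ⟨0, (hH i).eq_of_src _ _, (h i (by omega)).eq_of_tgt _ _⟩
  · exact ⟨fun _ _ _ => (h _ (by omega)).eq_of_src _ _⟩

/-- a complex with finite homology in degree `n` and none above is `n`-pseudo-coherent -/
lemma pc_of_finite {A : Type u} [CommRing A] (C : DRing.Cx A) (n : ℤ) [Module.Finite A (C.homology n)]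
    (h : ∀ i, n < i → IsZero (C.homology i)) : DRing.IsPseudoCoherent A n (DRing.toD C) := by
  have : Module.Finite A (cyc C n ⧸ LinearMap.range (C.sc' (n - 1) n (n + 1)).moduleCatToCycles) :=
    Module.Finite.equiv (homologyEquiv C n)
  obtain ⟨k, π, hπ⟩ := Module.Finite.exists_fin' A
    (cyc C n ⧸ LinearMap.range (C.sc' (n - 1) n (n + 1)).moduleCatToCycles)
  obtain ⟨σ, hσ⟩ := Module.projective_lifting_property
    (LinearMap.range (C.sc' (n - 1) n (n + 1)).moduleCatToCycles).mkQ π (Submodule.mkQ_surjective _)
  let E : DRing.Cx A := (HomologicalComplex.single _ _ n).obj (ModuleCat.of A (Fin k → A))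
  let φ : E ⟶ C := HomologicalComplex.mkHomFromSingle
    (ModuleCat.ofHom ((cyc C n).subtype.comp σ)) (fun j hj => by
      simp only [ComplexShape.up_Rel] at hj
      subst hj
      refine ModuleCat.hom_ext (LinearMap.ext fun x => ?_)
      exact (σ x).2)
  have hE : DRing.VanishesOutside E n n := fun i hi =>
    HomologicalComplex.isZero_single_obj_X _ _ _ _ (by omega)
  have hEF : DRing.TermwiseFiniteFree E := fun i => by
    by_cases hi : i = n
    · subst hi
      exact ⟨Module.Finite.equiv (HomologicalComplex.singleObjXSelf _ _ _).symm.toLinearEquiv,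
        Module.Free.of_equiv (HomologicalComplex.singleObjXSelf _ _ _).symm.toLinearEquiv⟩
    · have := ModuleCat.subsingleton_of_isZero (hE i (by omega))
      exact ⟨inferInstance, inferInstance⟩
  refine (pc_iff n _).2 ⟨E, n, n, DerivedCategory.Q.map φ, hE, hEF, ?_⟩
  rw [isApprox_Q_map_iff]
  intro i hi
  rw [← coneExact_iff φ (i - 1) i (i + 1) (i + 2) (by omega) rfl (by omega)]
  intro p x _ hx
  have hp : p = 0 := by
    have := ModuleCat.subsingleton_of_isZero (hE (i + 1) (by omega))
    exact Subsingleton.elim _ _
  rw [hp, map_zero] at hx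
  rcases eq_or_lt_of_le hi with rfl | hi'
  · obtain ⟨c, hc⟩ := hπ (Submodule.Quotient.mk ⟨x, hx.symm⟩)
    rw [← hσ, LinearMap.comp_apply] at hc
    obtain ⟨y, hy⟩ := (Submodule.Quotient.eq _).1 hc.symm
    have hy' : C.d (n - 1) n y = x - ((cyc C n).subtype.comp σ) c := congrArg Subtype.val hy
    refine ⟨(HomologicalComplex.singleObjXSelf (ComplexShape.up ℤ) n (ModuleCat.of A (Fin k → A))).inv c, y, ?_, ?_⟩
    · rw [hp]
      have := ModuleCat.subsingleton_of_isZero (hE (n + 1) (by omega))
      exact Subsingleton.elim _ _
    · show (φ.f n).hom _ + _ = x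
      rw [HomologicalComplex.mkHomFromSingle_f]
      show ((cyc C n).subtype.comp σ)
        ((HomologicalComplex.singleObjXSelf (ComplexShape.up ℤ) n (ModuleCat.of A (Fin k → A))).hom.hom
          ((HomologicalComplex.singleObjXSelf (ComplexShape.up ℤ) n (ModuleCat.of A (Fin k → A))).inv.hom c)) +
        _ = x
      erw [Iso.inv_hom_id_apply]
      rw [hy', add_sub_cancel]
  · obtain ⟨y, hy⟩ := (range_eq_cyc (h i hi')).ge (show x ∈ cyc C i from hx.symm)
    refine ⟨0, y, ?_, ?_⟩
    · rw [hp, map_zero]
    · rw [map_zero, zero_add]; exact hy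

include hf in
theorem pc_of_local (K : DRing.Cx R) (m : ℤ)
    (hK : ∀ i, DRing.IsPseudoCoherent (Localization.Away (f i)) m
      (DRing.toD (((locF f i).mapHomologicalComplex (ComplexShape.up ℤ)).obj K))) :
    DRing.IsPseudoCoherent R m (DRing.toD K) := by
  choose N hN using fun i => exists_LEH (hK i)
  obtain ⟨M, hM⟩ : ∃ M : ℤ, ∀ i, N i ≤ M := Finite.exists_le N
  have hbd : LEH (DRing.toD K) (max M m) := fun j hj => by
    rw [isZero_HH_Q_iff]
    refine isZero_of_local hf _ fun i => ?_
    exact ((isZero_HH_Q_iff _ j).1 (hN i j (by have := hM i; omega))).of_iso (locHomologyIso f i K j).symm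
  suffices ∀ k : ℕ, m ≤ max M m + 1 - k → DRing.IsPseudoCoherent R (max M m + 1 - k) (DRing.toD K) by
    have h := this (max M m + 1 - m).toNat (by omega)
    rwa [show max M m + 1 - ((max M m + 1 - m).toNat : ℤ) = m by omega] at h
  intro k
  induction k with
  | zero => intro _; simpa using pc_of_LEH hbd
  | succ k ih =>
    intro hk
    obtain ⟨E, a, b, α, v, fE, happ⟩ := (pc_iff _ _).1 (ih (by omega))
    have := isKProjective_bounded v fE
    obtain ⟨g, rfl⟩ := exists_chainMap α
    rw [isApprox_Q_map_iff] at happ
    generalize hn : max M m + 1 - ((k + 1 : ℕ) : ℤ) = n at hk ⊢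
    have hex : ∀ i, n < i → IsZero ((mappingCone g).homology i) := fun i hi => happ i (by omega)
    have : Module.Finite R ((mappingCone g).homology n) := by
      refine finite_of_local hf _ fun i => ?_
      let g' := ((locF f i).mapHomologicalComplex (ComplexShape.up ℤ)).map g
      have v' : DRing.VanishesOutside (((locF f i).mapHomologicalComplex (ComplexShape.up ℤ)).obj E) a b :=
        fun j hj => (locF f i).map_isZero (v j hj)
      have fE' : DRing.TermwiseFiniteFree (((locF f i).mapHomologicalComplex (ComplexShape.up ℤ)).obj E) := by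
        intro j
        obtain ⟨_, _⟩ := fE j
        obtain ⟨e⟩ := extendScalars_equiv (S := Localization.Away (f i)) (E.X j)
        exact ⟨Module.Finite.equiv e.symm, Module.Free.of_equiv e.symm⟩
      have hpc : DRing.IsPseudoCoherent (Localization.Away (f i)) n (DRing.toD (mappingCone g')) :=
        pc_third _ (mappingCone_distinguished g') n (pc_of_bounded_free v' fE' (n + 1)) (pc_mono hk (hK i))
      let eC : ∀ j, (mappingCone g').homology j ≅ (locF f i).obj ((mappingCone g).homology j) := fun j =>
        ((HomologicalComplex.homologyFunctor _ _ j).mapIso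
          (mappingCone.mapHomologicalComplexIso g (locF f i))).symm ≪≫ locHomologyIso f i (mappingCone g) j
      have hz : LEH (DRing.toD (mappingCone g')) n := fun j hj =>
        (isZero_HH_Q_iff _ j).2 (((locF f i).map_isZero (hex j hj)).of_iso (eC j))
      have : Module.Finite (Localization.Away (f i))
          ((DerivedCategory.Q ⋙ DerivedCategory.homologyFunctor (ModuleCat.{u} (Localization.Away (f i))) n).obj
            (mappingCone g')) := pc_finite hpc hz
      exact Module.Finite.equiv
        ((((DerivedCategory.homologyFunctorFactors _ n).app (mappingCone g')) ≪≫ eC n).toLinearEquiv)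
    exact pc_second _ (mappingCone_distinguished g) n (pc_of_bounded_free v fE n)
      (pc_of_finite (mappingCone g) n hex)

end Groth.L02.PC
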