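import Groth.Prelude.Def_DRing2
import Mathlib.Algebra.Category.ModuleCat.Basic
import Mathlib.LinearAlgebra.Quotient.Basic

/-!
The subcomplex of terms in degrees at least `n`, for complexes of modules.
-/

universe u

open CategoryTheory CategoryTheory.Limits

namespace Groth.L02.PC

variable {A : Type u} [CommRing A] (P : CochainComplex (ModuleCat.{u} A) ℤ) (n : ℤ)

/-- the terms of the truncation, as submodules -/
def truncSub (i : ℤ) : Submodule A (P.X i) := if n ≤ i then ⊤ else ⊥

lemma truncSub_eq_top {i : ℤ} (hi : n ≤ i) : truncSub P n i = ⊤ := if_pos hi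

lemma truncSub_eq_bot {i : ℤ} (hi : i < n) : truncSub P n i = ⊥ := if_neg (by omega)

lemma d_mem_truncSub (i j : ℤ) (x : P.X i) (hx : x ∈ truncSub P n i) : P.d i j x ∈ truncSub P n j := by
  by_cases hi : n ≤ i
  · by_cases hij : (ComplexShape.up ℤ).Rel i j
    · rw [truncSub_eq_top P n (show n ≤ j by simp at hij; omega)]
      trivial
    · rw [P.shape i j hij]
      exact zero_mem _
  · rw [truncSub_eq_bot P n (by omega), Submodule.mem_bot] at hx
    rw [hx, map_zero]
    exact zero_mem _

/-- the brutal truncation in degrees `≥ n` -/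
noncomputable def trunc : CochainComplex (ModuleCat.{u} A) ℤ where
  X i := ModuleCat.of A (truncSub P n i)
  d i j := ModuleCat.ofHom ((P.d i j).hom.restrict (d_mem_truncSub P n i j))
  shape i j hij := by
    refine ModuleCat.hom_ext (LinearMap.ext fun x => Subtype.ext ?_)
    show P.d i j x.1 = (0 : P.X j)
    rw [P.shape i j hij]
    rfl
  d_comp_d' i j k _ _ := by
    refine ModuleCat.hom_ext (LinearMap.ext fun x => Subtype.ext ?_)
    show (P.d i j ≫ P.d j k).hom x.1 = (0 : P.X k)
    rw [P.d_comp_d]
    rfl

/-- the inclusion of the truncation -/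
noncomputable def truncι : trunc P n ⟶ P where
  f i := ModuleCat.ofHom (truncSub P n i).subtype
  comm' _ _ _ := ModuleCat.hom_ext (LinearMap.ext fun _ => rfl)

lemma truncι_bijective {i : ℤ} (hi : n ≤ i) : Function.Bijective ((truncι P n).f i) :=
  ⟨Subtype.val_injective, fun x => ⟨⟨x, by rw [truncSub_eq_top P n hi]; trivial⟩, rfl⟩⟩

lemma isZero_trunc_X {i : ℤ} (hi : i < n) : IsZero ((trunc P n).X i) := by
  have h : Subsingleton (truncSub P n i) := by
    rw [truncSub_eq_bot P n hi]; infer_instance
  exact @ModuleCat.isZero_of_subsingleton _ _ _ h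

lemma trunc_finiteFree (h : ∀ i, n ≤ i → Module.Finite A (P.X i) ∧ Module.Free A (P.X i)) :
    DRing.TermwiseFiniteFree (trunc P n) := fun i => by
  by_cases hi : n ≤ i
  · obtain ⟨_, _⟩ := h i hi
    let e : (trunc P n).X i ≃ₗ[A] P.X i :=
      LinearEquiv.ofBijective ((truncι P n).f i).hom (truncι_bijective P n hi)
    exact ⟨Module.Finite.equiv e.symm, Module.Free.of_equiv e.symm⟩
  · have := ModuleCat.subsingleton_of_isZero (isZero_trunc_X P n (show i < n by omega))
    exact ⟨inferInstance, inferInstance⟩

lemma trunc_vanishesOutside (b : ℤ) (h : DRing.VanishesAbove P b) :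
    DRing.VanishesOutside (trunc P n) n b := by
  rintro i (hi | hi)
  · exact isZero_trunc_X P n hi
  · have := ModuleCat.subsingleton_of_isZero (h i hi)
    have : Subsingleton ((trunc P n).X i) := inferInstanceAs (Subsingleton (truncSub P n i))
    exact ModuleCat.isZero_of_subsingleton _

end Groth.L02.PC
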