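import Groth.Agent.L02.PC.Stage
import Groth.Agent.L02.PC.Trunc
import Mathlib.LinearAlgebra.Finsupp.LinearCombination
import Mathlib.LinearAlgebra.StdBasis
import Mathlib.Algebra.Homology.Embedding.IsSupported

/-!
Free resolutions and finite free resolutions of bounded above complexes of modules.
-/

universe u

open CategoryTheory CategoryTheory.Limits CochainComplex CategoryTheory.Pretriangulated

namespace Groth.L02.PC

variable {A : Type u} [CommRing A] (K : CochainComplex (ModuleCat.{u} A) ℤ) (b : ℤ)

/-- the complex below `b`, as a chain complex -/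
noncomputable abbrev below : ChainComplex (ModuleCat.{u} A) ℕ :=
  K.restriction (ComplexShape.embeddingUpIntLE b)

lemma below_f' {i : ℤ} (h : i ≤ b) : (ComplexShape.embeddingUpIntLE b).f (b - i).toNat = i :=
  show b - ((b - i).toNat : ℤ) = i by omega

lemma below_f (k : ℕ) : (ComplexShape.embeddingUpIntLE b).f k = b - (k : ℤ) := rfl

/-- a complex vanishing above `b` is the extension of its part below `b` -/
noncomputable def stupidIso (hK : DRing.VanishesAbove K b) : K.stupidTrunc (ComplexShape.embeddingUpIntLE b) ≅ K :=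
  HomologicalComplex.Hom.isoOfComponents
    (fun i => if h : i ≤ b then
        K.stupidTruncXIso (ComplexShape.embeddingUpIntLE b) (i := (b - i).toNat) (below_f' b h)
      else
        (K.isZero_stupidTrunc_X _ i (fun (k : ℕ) => show b - (k : ℤ) ≠ i by omega)).iso (hK i (not_le.mp h)))
    (fun i j hij => by
      simp only [ComplexShape.up_Rel] at hij
      by_cases hj : j ≤ b
      · rw [dif_pos (show i ≤ b by omega), dif_pos hj]
        obtain ⟨k, rfl⟩ : ∃ k : ℕ, j = b - (k : ℤ) := ⟨(b - j).toNat, by omega⟩
        obtain rfl : i = b - ((k + 1 : ℕ) : ℤ) := by omega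
        have hk : (b - (b - (k : ℤ))).toNat = k := by omega
        have hk1 : (b - (b - ((k + 1 : ℕ) : ℤ))).toNat = k + 1 := by omega
        have hd : (K.stupidTrunc (ComplexShape.embeddingUpIntLE b)).d (b - ((k + 1 : ℕ) : ℤ)) (b - (k : ℤ)) =
            (K.stupidTruncXIso _ (below_f b (k + 1))).hom ≫ K.d _ _ ≫
              (K.stupidTruncXIso _ (below_f b k)).inv := by
          show ((K.restriction _).extend _).d _ _ = _
          rw [(K.restriction _).extend_d_eq _ (below_f b (k + 1)) (below_f b k)]
          simp [HomologicalComplex.stupidTruncXIso]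
          rfl
        generalize_proofs p1 p2 at hd ⊢
        have e1 : ∀ (m : ℕ) (h : (ComplexShape.embeddingUpIntLE b).f m = b - (k : ℤ)), m = k →
            K.stupidTruncXIso _ h = K.stupidTruncXIso _ (below_f b k) := by
          intro m h hm; subst hm; rfl
        have e2 : ∀ (m : ℕ) (h : (ComplexShape.embeddingUpIntLE b).f m = b - ((k + 1 : ℕ) : ℤ)), m = k + 1 →
            K.stupidTruncXIso _ h = K.stupidTruncXIso _ (below_f b (k + 1)) := by
          intro m h hm; subst hm; rfl
        rw [e1 _ _ hk, e2 _ _ hk1, hd]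
        simp
      · exact (hK j (by omega)).eq_of_tgt _ _)

variable (C : Chooser (below K b))

/-- the resolution, as a cochain complex -/
noncomputable abbrev coRes : CochainComplex (ModuleCat.{u} A) ℤ :=
  (res C).extend (ComplexShape.embeddingUpIntLE b)

/-- the components of the resolution -/
noncomputable def coResXIso (k : ℕ) : (coRes K b C).X (b - (k : ℤ)) ≅ (res C).X k :=
  (res C).extendXIso (ComplexShape.embeddingUpIntLE b) (below_f b k)

lemma coRes_vanishesAbove : DRing.VanishesAbove (coRes K b C) b := fun i hi =>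
  HomologicalComplex.isZero_extend_X _ _ _ (fun (k : ℕ) => show b - (k : ℤ) ≠ i by omega)

/-- the augmentation, as a map of cochain complexes -/
noncomputable def coAug (hK : DRing.VanishesAbove K b) : coRes K b C ⟶ K :=
  HomologicalComplex.extendMap (aug C) (ComplexShape.embeddingUpIntLE b) ≫ (stupidIso K b hK).hom

lemma coAug_f (hK : DRing.VanishesAbove K b) (k : ℕ) : (coAug K b C hK).f (b - (k : ℤ)) = (coResXIso K b C k).hom ≫ (aug C).f k := by
  have e1 : ∀ (m : ℕ) (h : (ComplexShape.embeddingUpIntLE b).f m = b - (k : ℤ)), m = k →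
      K.stupidTruncXIso _ h = K.stupidTruncXIso _ (below_f b k) := by
    intro m h hm; subst hm; rfl
  show (HomologicalComplex.extendMap (aug C) _).f _ ≫ Iso.hom (dite _ _ _) = _
  erw [dif_pos (show b - (k : ℤ) ≤ b by omega)]
  rw [e1 _ _ (by omega), HomologicalComplex.extendMap_f (aug C) _ (below_f b k)]
  simp only [HomologicalComplex.stupidTruncXIso, coResXIso, Category.assoc]
  congr 1
  erw [Iso.inv_hom_id_assoc]
  exact Category.comp_id _

lemma coRes_d (k : ℕ) (i : ℤ) (hi : i = b - ((k + 1 : ℕ) : ℤ)) :
    (coRes K b C).d i (b - (k : ℤ)) =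
      ((res C).extendXIso (ComplexShape.embeddingUpIntLE b) (i := k + 1) (i' := i) (hi ▸ below_f b (k + 1))).hom ≫
        (res C).d (k + 1) k ≫ (coResXIso K b C k).inv :=
  HomologicalComplex.extend_d_eq _ _ _ _

lemma coAug_apply (hK : DRing.VanishesAbove K b) (k : ℕ) (p : (coRes K b C).X (b - (k : ℤ))) :
    (coAug K b C hK).f (b - (k : ℤ)) p = (aug C).f k ((coResXIso K b C k).hom p) := by
  rw [coAug_f]; rfl

lemma coRes_d_apply (k : ℕ) (p : (coRes K b C).X (b - ((k + 1 : ℕ) : ℤ))) :
    (coResXIso K b C k).hom ((coRes K b C).d _ (b - (k : ℤ)) p) =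
      (res C).d (k + 1) k ((coResXIso K b C (k + 1)).hom p) := by
  rw [coRes_d K b C k _ rfl]
  exact Iso.inv_hom_id_apply (coResXIso K b C k) _

lemma coResXIso_injective (k : ℕ) : Function.Injective (coResXIso K b C k).hom :=
  (coResXIso K b C k).toLinearEquiv.injective

/-- if the cover at stage `k` generates, the cone is exact in degree `b - k` -/
theorem coneExact_of_covers (hK : DRing.VanishesAbove K b) (k : ℕ) (hc : Covers C k) (h i j l : ℤ) (hi : i = b - (k : ℤ))
    (hhi : h + 1 = i) (hij : i + 1 = j) (hjl : j + 1 = l) :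
    ConeExact (coAug K b C hK) h i j l := by
  subst hi
  obtain rfl : h = b - ((k + 1 : ℕ) : ℤ) := by omega
  intro p x hp hx
  cases k with
  | zero =>
    obtain ⟨q, y, hqy⟩ := exact_bottom C hc x
    refine ⟨(coResXIso K b C 0).inv q, y, ?_, ?_⟩
    · have := ModuleCat.subsingleton_of_isZero (coRes_vanishesAbove K b C j (by omega))
      exact Subsingleton.elim _ _
    · rw [coAug_apply, Iso.inv_hom_id_apply]
      exact hqy
  | succ k =>
    obtain rfl : j = b - (k : ℤ) := by omega
    let p' := (coResXIso K b C k).hom p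
    have hp' : ∀ m, (res C).d k m p' = 0 := by
      intro m
      by_cases hm : (ComplexShape.down ℕ).Rel k m
      · simp only [ComplexShape.down_Rel] at hm
        subst hm
        obtain rfl : l = b - (m : ℤ) := by omega
        have h2 := congrArg (coResXIso K b C m).hom hp
        rw [coRes_d_apply, map_zero] at h2
        exact h2
      · rw [(res C).shape k m hm]
        rfl
    obtain ⟨q, y, hq, hy⟩ := exact_step C k hc p' x hp' (by
      rw [← coAug_apply K b C hK k p, hx]
      rfl)
    refine ⟨(coResXIso K b C (k + 1)).inv q, y, ?_, ?_⟩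
    · apply coResXIso_injective K b C k
      rw [coRes_d_apply, Iso.inv_hom_id_apply]
      exact hq
    · rw [coAug_apply, Iso.inv_hom_id_apply]
      exact hy

/-- above `b` the cone is exact -/
theorem coneExact_above {P : CochainComplex (ModuleCat.{u} A) ℤ} (hP : DRing.VanishesAbove P b)
    (f : P ⟶ K) (h i j l : ℤ) (hi : b < i) (hij : i + 1 = j) (hK : DRing.VanishesAbove K b) :
    ConeExact f h i j l := by
  intro p x _ _
  have := ModuleCat.subsingleton_of_isZero (hP j (by omega))
  have := ModuleCat.subsingleton_of_isZero (hK i hi)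
  exact ⟨0, 0, Subsingleton.elim _ _, Subsingleton.elim _ _⟩

/-- a map is a quasi-isomorphism when its cone is exact everywhere -/
theorem quasiIso_of_coneExact {P : CochainComplex (ModuleCat.{u} A) ℤ} (f : P ⟶ K)
    (hf : ∀ i : ℤ, ConeExact f (i - 1) i (i + 1) (i + 2)) : QuasiIso f := by
  let := HasDerivedCategory.standard (ModuleCat.{u} A)
  have h0 : IsZero (DerivedCategory.Q.obj (mappingCone f)) := by
    have hiso : IsIso (0 : DerivedCategory.Q.obj (mappingCone f) ⟶ DerivedCategory.Q.obj (mappingCone f)) := by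
      rw [DerivedCategory.isIso_iff]
      intro n
      have hz : IsZero ((DerivedCategory.homologyFunctor (ModuleCat.{u} A) n).obj
          (DerivedCategory.Q.obj (mappingCone f))) :=
        IsZero.of_iso ((coneExact_iff f _ _ _ _ (by omega) rfl (by omega)).mp (hf n))
          ((DerivedCategory.homologyFunctorFactors _ n).app _)
      exact ⟨0, hz.eq_of_src _ _, hz.eq_of_tgt _ _⟩
    exact (IsZero.iff_id_eq_zero _).2 (by
      rw [← @IsIso.hom_inv_id _ _ _ _ (0 : DerivedCategory.Q.obj (mappingCone f) ⟶
        DerivedCategory.Q.obj (mappingCone f)) hiso, zero_comp])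
  rw [← DerivedCategory.isIso_Q_map_iff_quasiIso]
  have hT : DerivedCategory.Q.mapTriangle.obj (mappingCone.triangle f) ∈ distinguishedTriangles :=
    (DerivedCategory.mem_distTriang_iff _).mpr ⟨_, _, f, ⟨Iso.refl _⟩⟩
  exact (Pretriangulated.Triangle.isZero₃_iff_isIso₁ _ hT).mp h0

/-- the chooser using free modules on all elements -/
noncomputable def freeChooser (R : ChainComplex (ModuleCat.{u} A) ℕ) : Chooser R := fun _ s =>
  ⟨ModuleCat.of A (s.M →₀ A), Finsupp.linearCombination A id⟩

lemma covers_free (R : ChainComplex (ModuleCat.{u} A) ℕ) (k : ℕ) : Covers (freeChooser R) k := fun m =>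
  ⟨Finsupp.single m 1, 0, by
    show Finsupp.linearCombination A id (Finsupp.single m 1) + (seq (freeChooser R) k).j 0 = m
    simp⟩

/-- bounded above complexes have bounded above free resolutions -/
theorem exists_free_resolution (hK : DRing.VanishesAbove K b) :
    ∃ (P : CochainComplex (ModuleCat.{u} A) ℤ) (f : P ⟶ K),
      DRing.VanishesAbove P b ∧ (∀ i, Module.Free A (P.X i)) ∧ QuasiIso f := by
  refine ⟨coRes K b (freeChooser _), coAug K b _ hK, coRes_vanishesAbove K b _, fun i => ?_,
    quasiIso_of_coneExact K _ fun i => ?_⟩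
  · by_cases hi : i ≤ b
    · obtain ⟨k, rfl⟩ : ∃ k : ℕ, i = b - (k : ℤ) := ⟨(b - i).toNat, by omega⟩
      have : Module.Free A ((res (freeChooser (below K b))).X k) :=
        inferInstanceAs (Module.Free A (_ →₀ A))
      exact Module.Free.of_equiv (coResXIso K b _ k).symm.toLinearEquiv
    · have := ModuleCat.subsingleton_of_isZero (coRes_vanishesAbove K b (freeChooser _) i (by omega))
      infer_instance
  · by_cases hi : i ≤ b
    · exact coneExact_of_covers K b _ hK (b - i).toNat (covers_free _ _) _ _ _ _ (by omega)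
        (by omega) rfl (by omega)
    · exact coneExact_above K b (coRes_vanishesAbove K b _) _ _ _ _ _ (by omega) rfl hK

open Classical in
/-- the chooser using finite free modules whenever that is possible -/
noncomputable def finiteChooser (R : ChainComplex (ModuleCat.{u} A) ℕ) : Chooser R := fun _ s =>
  if h : ∃ (n : ℕ) (g : Fin n → s.M), ∀ m, ∃ (c : Fin n → A) (y : R.X _), (∑ l, c l • g l) + s.j y = m then
    ⟨ModuleCat.of A (Fin h.choose → A), Fintype.linearCombination A h.choose_spec.choose⟩
  else ⟨ModuleCat.of A (Fin 0 → A), 0⟩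

lemma finiteChooser_finite (R : ChainComplex (ModuleCat.{u} A) ℕ) (k : ℕ) :
    Module.Finite A (PX (finiteChooser R) k) ∧ Module.Free A (PX (finiteChooser R) k) := by
  obtain ⟨n, hn⟩ : ∃ n, PX (finiteChooser R) k = ModuleCat.of A (Fin n → A) := by
    unfold PX
    conv => arg 1; intro n; lhs; arg 1; unfold finiteChooser
    split_ifs <;> exact ⟨_, rfl⟩
  rw [hn]
  exact ⟨inferInstanceAs (Module.Finite A (Fin n → A)), inferInstanceAs (Module.Free A (Fin n → A))⟩

lemma covers_finite (R : ChainComplex (ModuleCat.{u} A) ℕ) (k : ℕ)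
    (h : ∃ (n : ℕ) (g : Fin n → (seq (finiteChooser R) k).M), ∀ m, ∃ (c : Fin n → A) (y : R.X (k + 1)),
      (∑ l, c l • g l) + (seq (finiteChooser R) k).j y = m) :
    Covers (finiteChooser R) k := by
  have key : ∀ (s : Stage R k),
      (∃ (n : ℕ) (g : Fin n → s.M), ∀ m, ∃ (c : Fin n → A) (y : R.X (k + 1)), (∑ l, c l • g l) + s.j y = m) →
      ∀ m : s.M, ∃ q y, (finiteChooser R k s).2 q + s.j y = m := by
    intro s hs m
    unfold finiteChooser
    rw [dif_pos hs]
    obtain ⟨c, y, hcy⟩ := hs.choose_spec.choose_spec m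
    refine ⟨c, y, ?_⟩
    show Fintype.linearCombination A hs.choose_spec.choose c + _ = m
    rw [Fintype.linearCombination_apply]
    exact hcy
  exact key _ h

/-- the components of the resolution, as modules -/
noncomputable def eX (k : ℕ) : (coRes K b C).X (b - (k : ℤ)) ≃ₗ[A] PX C k :=
  (coResXIso K b C k).toLinearEquiv

lemma eX_d (k : ℕ) (p : (coRes K b C).X (b - ((k + 1 : ℕ) : ℤ))) :
    eX K b C k ((coRes K b C).d _ (b - (k : ℤ)) p) = stFst C k (π C (k + 1) (eX K b C (k + 1) p)) := by
  refine (coRes_d_apply K b C k p).trans ?_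
  rw [res_d]
  rfl

lemma coAug_eX (hK : DRing.VanishesAbove K b) (k : ℕ) (p : (coRes K b C).X (b - (k : ℤ))) :
    (coAug K b C hK).f (b - (k : ℤ)) p = (seq C k).x (π C k (eX K b C k p)) :=
  coAug_apply K b C hK k p

/-- finiteness of the homology of a partial cone gives finite generation at the next stage -/
theorem stage_finite (hK : DRing.VanishesAbove K b) (k : ℕ) (n : ℤ) (hn : n = b - (k : ℤ) + 1)
    [Module.Finite A ((mappingCone (truncι (coRes K b C) n ≫ coAug K b C hK)).homology (b - (k : ℤ)))] :
    ∃ (N : ℕ) (g : Fin N → (seq C k).M), ∀ m, ∃ (c : Fin N → A) (y : (below K b).X (k + 1)),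
      (∑ l, c l • g l) + (seq C k).j y = m := by
  subst hn
  obtain ⟨N, g, hg, hgen⟩ := exists_finset_cone_cycles
    (truncι (coRes K b C) (b - (k : ℤ) + 1) ≫ coAug K b C hK) (b - ((k + 1 : ℕ) : ℤ)) (b - (k : ℤ))
    (b - (k : ℤ) + 1) (b - (k : ℤ) + 2) (by omega) rfl (by omega)
  have hq0 : ∀ q : (trunc (coRes K b C) (b - (k : ℤ) + 1)).X (b - (k : ℤ)), q = 0 := fun q => by
    have := ModuleCat.subsingleton_of_isZero
      (isZero_trunc_X (coRes K b C) (b - (k : ℤ) + 1) (i := b - (k : ℤ)) (by omega))
    exact Subsingleton.elim _ _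
  cases k with
  | zero =>
    refine ⟨N, fun l => (g l).2, fun m => ?_⟩
    have := ModuleCat.subsingleton_of_isZero (hK (b - ((0 : ℕ) : ℤ) + 1) (by omega))
    obtain ⟨c, q, y, -, hy⟩ := hgen 0 m (map_zero _) (Subsingleton.elim _ _)
    rw [hq0 q, map_zero, zero_add] at hy
    exact ⟨c, y, (congrArg ((∑ l, c l • (g l).2 : K.X (b - ((0 : ℕ) : ℤ))) + ·) hy).trans
      (add_sub_cancel _ _)⟩
  | succ k =>
    generalize hJ : b - ((k + 1 : ℕ) : ℤ) + 1 = J at g hg hgen hq0
    obtain rfl : J = b - (k : ℤ) := by omega
    let pr : Fin N → PX C k := fun l => eX K b C k (g l).1.1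
    let pp : ℕ → PX C k → Prop := fun m p => (res C).d k m p = 0
    have hpair : ∀ l, ∃ M : (seq C (k + 1)).M, stFst C k M = pr l ∧ (seq C (k + 1)).x M = (g l).2 := by
      intro l
      refine exists_pair C k (pr l) (g l).2 (fun m => ?_) ?_
      · by_cases hm : (ComplexShape.down ℕ).Rel k m
        · simp only [ComplexShape.down_Rel] at hm
          subst hm
          have hw := congrArg Subtype.val (hg l).1
          rw [show b - ((m + 1 + 1 : ℕ) : ℤ) + 2 = b - (m : ℤ) by omega] at hw
          have h2 := congrArg (eX K b C m) (show (coRes K b C).d _ (b - (m : ℤ)) (g l).1.1 = 0 from hw)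
          rw [map_zero, eX_d] at h2
          rw [res_d]
          exact h2
        · rw [(res C).shape k m hm]
          rfl
      · exact (coAug_eX K b C hK k (g l).1.1).symm.trans (hg l).2
    choose G hG1 hG2 using hpair
    refine ⟨N, G, fun m => ?_⟩
    let w : (trunc (coRes K b C) (b - (k : ℤ))).X (b - (k : ℤ)) :=
      ⟨(eX K b C k).symm (stFst C k m), by rw [truncSub_eq_top _ _ le_rfl]; trivial⟩
    obtain ⟨c, q, y, hq, hy⟩ := hgen w ((seq C (k + 1)).x m) (by
      apply Subtype.ext
      cases k with
      | zero =>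
        have := ModuleCat.subsingleton_of_isZero
          (coRes_vanishesAbove K b C (b - ((0 + 1 : ℕ) : ℤ) + 2) (by omega))
        exact Subsingleton.elim (α := (coRes K b C).X (b - ((0 + 1 : ℕ) : ℤ) + 2)) _ _
      | succ m' =>
        show (coRes K b C).d (b - ((m' + 1 : ℕ) : ℤ)) _ w.1 = 0
        rw [show b - ((m' + 1 + 1 : ℕ) : ℤ) + 2 = b - (m' : ℤ) by omega]
        apply (eX K b C m').injective
        rw [map_zero, eX_d]
        show stFst C m' (π C (m' + 1) (eX K b C (m' + 1) ((eX K b C (m' + 1)).symm _))) = 0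
        rw [LinearEquiv.apply_symm_apply, mem_next, stFst_j]) (by
      refine (coAug_eX K b C hK k w.1).trans ?_
      show (seq C k).x (π C k (eX K b C k ((eX K b C k).symm _))) = _
      rw [LinearEquiv.apply_symm_apply, mem_next]
      exact (seq C k).xj _)
    refine ⟨c, y, Subtype.ext (Prod.ext ?_ ?_)⟩
    · show stFst C k ((∑ l, c l • G l) + (seq C (k + 1)).j y) = stFst C k m
      rw [hq0 q, map_zero, eq_comm, sub_eq_zero] at hq
      have h2 := congrArg (fun z => eX K b C k ((truncι (coRes K b C) (b - (k : ℤ))).f _ z)) hq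
      simp only [map_sum, map_smul] at h2
      rw [map_add, show stFst C k ((seq C (k + 1)).j y) = 0 from stFst_j C k y, add_zero, map_sum]
      simp only [map_smul, hG1]
      exact h2.symm.trans ((eX K b C k).apply_symm_apply _)
    · show (seq C (k + 1)).x ((∑ l, c l • G l) + (seq C (k + 1)).j y) = (seq C (k + 1)).x m
      rw [map_add, map_sum]
      simp only [map_smul, hG2]
      rw [hq0 q, map_zero, zero_add] at hy
      exact (congrArg ((∑ l, c l • (g l).2 : K.X (b - ((k + 1 : ℕ) : ℤ))) + ·)
        (((seq C (k + 1)).xj y).trans hy)).trans (add_sub_cancel _ _)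

/-- A bounded above complex all of whose partial finite free approximations have finite next homology
has a bounded above resolution by finite free modules. -/
theorem exists_finite_free_resolution (hK : DRing.VanishesAbove K b)
    (H : ∀ (W : CochainComplex (ModuleCat.{u} A) ℤ) (a : ℤ) (φ : W ⟶ K) (i : ℤ),
      DRing.VanishesOutside W a b → DRing.TermwiseFiniteFree W → i ≤ b →
      (∀ i', i < i' → IsZero ((mappingCone φ).homology i')) → Module.Finite A ((mappingCone φ).homology i)) :
    ∃ (P : CochainComplex (ModuleCat.{u} A) ℤ) (f : P ⟶ K),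
      DRing.VanishesAbove P b ∧ DRing.TermwiseFiniteFree P ∧ QuasiIso f := by
  let C := finiteChooser (below K b)
  let P := coRes K b C
  let f := coAug K b C hK
  have hV : DRing.VanishesAbove P b := coRes_vanishesAbove K b C
  have hFF : DRing.TermwiseFiniteFree P := fun i => by
    by_cases hi : i ≤ b
    · obtain ⟨k, rfl⟩ : ∃ k : ℕ, i = b - (k : ℤ) := ⟨(b - i).toNat, by omega⟩
      obtain ⟨(_ : Module.Finite A ((res C).X k)), (_ : Module.Free A ((res C).X k))⟩ :=
        finiteChooser_finite (below K b) k
      exact ⟨Module.Finite.equiv (coResXIso K b C k).symm.toLinearEquiv,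
        Module.Free.of_equiv (coResXIso K b C k).symm.toLinearEquiv⟩
    · have := ModuleCat.subsingleton_of_isZero (hV i (by omega))
      exact ⟨inferInstance, inferInstance⟩
  have hcov : ∀ k, Covers C k := by
    intro k
    induction k using Nat.strong_induction_on with
    | _ k ih =>
      have hex : ∀ i', b - (k : ℤ) < i' → ConeExact f (i' - 1) i' (i' + 1) (i' + 2) := by
        intro i' hi'
        by_cases hb : i' ≤ b
        · exact coneExact_of_covers K b C hK (b - i').toNat (ih _ (by omega)) _ _ _ _ (by omega)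
            (by omega) rfl (by omega)
        · exact coneExact_above K b hV _ _ _ _ _ (by omega) rfl hK
      let W := trunc P (b - (k : ℤ) + 1)
      let φ : W ⟶ K := truncι P _ ≫ f
      have hWex : ∀ i', b - (k : ℤ) < i' → IsZero ((mappingCone φ).homology i') := by
        intro i' hi'
        rw [← coneExact_iff φ (i' - 1) i' (i' + 1) (i' + 2) (by omega) rfl (by omega)]
        intro p x hp hx
        obtain ⟨q, y, hq, hy⟩ := hex i' hi' p.1 x (congrArg Subtype.val hp) hx
        exact ⟨⟨q, by rw [truncSub_eq_top P _ (show b - (k : ℤ) + 1 ≤ i' by omega)]; trivial⟩, y,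
          Subtype.ext hq, hy⟩
      have := H W _ φ (b - (k : ℤ)) (trunc_vanishesOutside P _ b hV)
        (trunc_finiteFree P _ fun i _ => hFF i) (by omega) hWex
      exact covers_finite _ k (stage_finite K b C hK k _ rfl)
  exact ⟨P, f, hV, hFF, quasiIso_of_coneExact K f fun i => by
    by_cases hi : i ≤ b
    · exact coneExact_of_covers K b C hK (b - i).toNat (hcov _) _ _ _ _ (by omega) (by omega) rfl (by omega)
    · exact coneExact_above K b hV _ _ _ _ _ (by omega) rfl hK⟩

end Groth.L02.PC
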